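import Cfsg.Agent.H40.Wreath.Model
import Cfsg.Agent.Lib.CharCore.Virtual
import Cfsg.Agent.Lib.CharCore.Linear
import Cfsg.Agent.PermB.CentralizerAlgebra

/-!
The four functions are generalized characters.
-/

set_option autoImplicit false

namespace Cfsg.Agent.H40.Wreath

/-- A group of permutations from an action given by a function. -/
def toPermHom {M X : Type} [Group M] (a : M → X → X) (h1 : ∀ p, a 1 p = p)
    (hm : ∀ g h p, a (g * h) p = a g (a h p)) : M →* Equiv.Perm X where
  toFun g :=
    { toFun := a g
      invFun := a g⁻¹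
      left_inv := fun p => by rw [← hm, inv_mul_cancel, h1]
      right_inv := fun p => by rw [← hm, mul_inv_cancel, h1] }
  map_one' := Equiv.ext h1
  map_mul' g h := Equiv.ext (hm g h)

theorem isGeneralized_fix {M X : Type} [Group M] [Fintype M] [Fintype X] [DecidableEq X]
    (a : M → X → X) (h1 : ∀ p, a 1 p = p) (hm : ∀ g h p, a (g * h) p = a g (a h p)) :
    Cfsg.IsGeneralizedCharacter M (fun g => ((Fintype.card {p : X // a g p = p} : ℕ) : ℂ)) := by
  letI : MulAction M X :=
    { smul := a, one_smul := h1, mul_smul := hm }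
  refine CharCore.IsCharacter.isGeneralized ?_
  convert PermB.isCharacter_permChar M X using 1
  funext g
  rw [PermB.permChar, ← Nat.card_eq_fintype_card]
  rfl

/-- A sign as a homomorphism to the units. -/
noncomputable def signHom (f : D4 → ℤ) (hf : ∀ g h, f (g * h) = f g * f h) (hsq : ∀ g, f g * f g = 1) :
    D4 →* ℂˣ where
  toFun g := ⟨(f g : ℂ), (f g : ℂ), by exact_mod_cast hsq g, by exact_mod_cast hsq g⟩
  map_one' := Units.ext (by
    have h := hsq 1
    have h2 := hf 1 1
    rw [one_mul, h] at h2
    simp [h2])
  map_mul' g h := Units.ext (by simp [hf])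

theorem isGeneralized_signs (f : D4 → ℤ) (hf : ∀ g h, f (g * h) = f g * f h)
    (hsq : ∀ g, f g * f g = 1) :
    Cfsg.IsGeneralizedCharacter K (fun k => (f k.right : ℂ)) :=
  CharCore.irr_isGeneralized
    ⟨_, CharCore.isIrrCharacter_hom ((signHom f hf hsq).comp SemidirectProduct.rightHom)⟩

theorem isGeneralized_alpha (t : Fin 4) :
    Cfsg.IsGeneralizedCharacter K (fun k => (α t k : ℂ)) := by
  have g6 : Cfsg.IsGeneralizedCharacter K (fun k => (fixSix k : ℂ)) :=
    isGeneralized_fix six six_one six_mul
  have g9 : Cfsg.IsGeneralizedCharacter K (fun k => (fixNine k : ℂ)) :=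
    isGeneralized_fix nine nine_one nine_mul
  have g4 : Cfsg.IsGeneralizedCharacter K (fun k => (fixFour k : ℂ)) :=
    isGeneralized_fix (fun (k : K) p => four k.right p) four_one (fun g h p => four_mul _ _ p)
  have gE := isGeneralized_signs sgE sgE_mul sgE_sq
  have gP := isGeneralized_signs sgP sgP_mul sgP_sq
  have a0 : Cfsg.IsGeneralizedCharacter K (fun k => (α 0 k : ℂ)) := by
    convert CharCore.isGeneralized_add (CharCore.isGeneralized_add (CharCore.isGeneralized_sub g4 g6)
      CharCore.isGeneralized_one) gP using 1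
    funext k
    simp [α]
  have a1 : Cfsg.IsGeneralizedCharacter K (fun k => (α 1 k : ℂ)) := by
    convert CharCore.isGeneralized_sub (CharCore.isGeneralized_sub (CharCore.isGeneralized_add
      (CharCore.isGeneralized_add (CharCore.isGeneralized_mul gE gP) g4) g6) g9)
      (CharCore.isGeneralized_intCast_smul gP 2) using 1
    funext k
    simp [α]
  fin_cases t
  · exact a0
  · exact a1
  · convert CharCore.isGeneralized_mul gP a1 using 1
    funext k
    simp [α]
  · convert CharCore.isGeneralized_mul gE a0 using 1
    funext k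
    simp [α]

end Cfsg.Agent.H40.Wreath
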