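import Mathlib

/-!
Four weighted points in the plane with prescribed moments.
-/

set_option autoImplicit false

namespace Cfsg.Agent.H40.Wreath

/-- The adjugate form of the symmetric matrix `(m₁, m₂, m₃)`. -/
def adjForm (m : ℂ × ℂ × ℂ) (x y x' y' : ℂ) : ℂ :=
  m.2.2 * x * x' - m.2.1 * (x * y' + y * x') + m.1 * y * y'

/-- The determinant. -/
def det2 (m : ℂ × ℂ × ℂ) : ℂ := m.1 * m.2.2 - m.2.1 ^ 2

theorem four_point {g : ℂ} (hg : g ≠ 0) (m : ℂ × ℂ × ℂ) {p0 p1 p2 p3 x0 x1 x2 x3 y0 y1 y2 y3 : ℂ}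
    (h3 : p3 ≠ 0)
    (s0 : p0 + p1 + p2 + p3 = 0) (sx : p0 * x0 + p1 * x1 + p2 * x2 + p3 * x3 = 0)
    (sy : p0 * y0 + p1 * y1 + p2 * y2 + p3 * y3 = 0)
    (sxx : p0 * x0 * x0 + p1 * x1 * x1 + p2 * x2 * x2 + p3 * x3 * x3 = g * m.1)
    (sxy : p0 * x0 * y0 + p1 * x1 * y1 + p2 * x2 * y2 + p3 * x3 * y3 = g * m.2.1)
    (syy : p0 * y0 * y0 + p1 * y1 * y1 + p2 * y2 * y2 + p3 * y3 * y3 = g * m.2.2) :
    adjForm m (x1 - x0) (y1 - y0) (x1 - x0) (y1 - y0) * (p0 * p1) = g * det2 m * (p0 + p1) ∧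
    adjForm m (x1 - x0) (y1 - y0) (x2 - x0) (y2 - y0) * p0 = g * det2 m ∧
    adjForm m (x1 - x0) (y1 - y0) (x3 - x2) (y3 - y2) = 0 := by
  obtain ⟨a, b, e⟩ := m
  simp only [adjForm, det2] at *
  have hp0 : p0 = -(p1 + p2 + p3) := by linear_combination s0
  subst hp0
  obtain ⟨X1, rfl⟩ : ∃ X, x1 = x0 + X := ⟨x1 - x0, by ring⟩
  obtain ⟨X2, rfl⟩ : ∃ X, x2 = x0 + X := ⟨x2 - x0, by ring⟩
  obtain ⟨Y1, rfl⟩ : ∃ X, y1 = y0 + X := ⟨y1 - y0, by ring⟩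
  obtain ⟨Y2, rfl⟩ : ∃ X, y2 = y0 + X := ⟨y2 - y0, by ring⟩
  have hx3 : x3 = x0 - (p1 * X1 + p2 * X2) / p3 := by
    field_simp; linear_combination sx
  have hy3 : y3 = y0 - (p1 * Y1 + p2 * Y2) / p3 := by
    field_simp; linear_combination sy
  subst hx3 hy3
  have ha : a = (p1 * X1 * X1 + p2 * X2 * X2 + (p1 * X1 + p2 * X2) ^ 2 / p3) / g := by
    rw [eq_div_iff hg]
    field_simp at sxx ⊢
    linear_combination -sxx
  have hb : b = (p1 * X1 * Y1 + p2 * X2 * Y2 +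
      (p1 * X1 + p2 * X2) * (p1 * Y1 + p2 * Y2) / p3) / g := by
    rw [eq_div_iff hg]
    field_simp at sxy ⊢
    linear_combination -sxy
  have he : e = (p1 * Y1 * Y1 + p2 * Y2 * Y2 + (p1 * Y1 + p2 * Y2) ^ 2 / p3) / g := by
    rw [eq_div_iff hg]
    field_simp at syy ⊢
    linear_combination -syy
  subst ha hb he
  refine ⟨?_, ?_, ?_⟩ <;> field_simp <;> ring

end Cfsg.Agent.H40.Wreath
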