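import Cfsg.Agent.H40.Wreath.Rows

/-!
In both fusion patterns some nontrivial index has degree one.
-/

set_option autoImplicit false

namespace Cfsg.Agent.H40.Wreath

variable {ι : Type*} [Fintype ι]

/-- Moments when the three involution classes stay separate. -/
def mSep : Fin 4 → ℂ × ℂ × ℂ := ![(1, 0, 2), (2, 0, 1), (2, 0, 1), (1, 0, 2)]

/-- The linear relations between the values at the third class and at the others. -/
def tieA : Fin 4 → ℂ := ![3, 0, 0, -3]
def tieB : Fin 4 → ℂ := ![0, 3, -3, 0]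

/-- Moments when the first and third classes fuse. -/
def mFus : Fin 4 → ℂ × ℂ × ℂ := ![(16, 0, 2), (11, 3, 1), (11, -3, 1), (4, 0, 2)]

namespace Data

variable (R : Data ι)

/-- Adding a multiple of a function invisible to all moments of row `t`. -/
theorem diff_eq_zero {t : Fin 4} (r : ι → ℂ)
    (h1 : ∑ i, (R.c t i : ℂ) * R.d i * r i = 0)
    (hU : ∑ i, (R.c t i : ℂ) * R.d i * r i * R.U i = 0)
    (hW : ∑ i, (R.c t i : ℂ) * R.d i * r i * R.W i = 0)
    (hr : ∑ i, (R.c t i : ℂ) * R.d i * r i * r i = 0) (hm : (R.m t).2.2 ≠ 0)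
    {i j : ι} (hi : R.c t i ≠ 0) (hj : R.c t j ≠ 0) : r i = r j := by
  by_cases hij : i = j
  · rw [hij]
  obtain ⟨k, l, hk, hl, hki, hkj, hli, hlj, hkl⟩ := R.exists_complete hij hi hj
  have S := R.sum_four hi hj hk hl hij hki.symm hli.symm hkj.symm hlj.symm hkl
  have hassoc : ∀ f g : ι → ℂ, ∑ x, (R.c t x : ℂ) * R.d x * f x * g x =
      R.p t i * f i * g i + R.p t j * f j * g j + R.p t k * f k * g k + R.p t l * f l * g l := by
    intro f g
    rw [Finset.sum_congr rfl (fun x _ => mul_assoc _ (f x) (g x)), S]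
    ring
  have a1 := h1; rw [S] at a1
  have aU := hU; rw [hassoc] at aU
  have aW := hW; rw [hassoc] at aW
  have ar := hr; rw [hassoc] at ar
  have bU := R.linU t; rw [S] at bU
  have bW := R.linW t; rw [S] at bW
  have bUU := R.momUU t; rw [hassoc] at bUU
  have bUW := R.momUW t; rw [hassoc] at bUW
  have bWW := R.momWW t; rw [hassoc] at bWW
  have s0 : R.p t i + R.p t j + R.p t k + R.p t l = 0 := by
    have h := S (fun _ => 1)
    simp only [mul_one] at h
    rw [← h]
    exact_mod_cast R.deg t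
  have key : ∀ e : ℂ,
      adjForm (R.m t) (R.U j + e * r j - (R.U i + e * r i)) (R.W j - R.W i)
        (R.U j + e * r j - (R.U i + e * r i)) (R.W j - R.W i) * (R.p t i * R.p t j) =
      R.g * det2 (R.m t) * (R.p t i + R.p t j) := by
    intro e
    exact (four_point R.g_ne (R.m t) (R.p_ne hl) s0 (x0 := R.U i + e * r i) (x1 := R.U j + e * r j)
      (x2 := R.U k + e * r k) (x3 := R.U l + e * r l) (y0 := R.W i) (y1 := R.W j) (y2 := R.W k)
      (y3 := R.W l) (by linear_combination bU + e * a1) bW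
      (by linear_combination bUU + 2 * e * aU + e ^ 2 * ar)
      (by linear_combination bUW + e * aW) bWW).1
  have h2 := key 1
  have h3 := key (-1)
  have h0 := key 0
  simp only [adjForm] at h0 h2 h3
  have : (R.m t).2.2 * (r j - r i) ^ 2 * (R.p t i * R.p t j) = 0 := by
    linear_combination (1 / 2 : ℂ) * h2 + (1 / 2 : ℂ) * h3 - h0
  rcases mul_eq_zero.mp this with h | h
  · rcases mul_eq_zero.mp h with h' | h'
    · exact absurd h' hm
    · exact (sub_eq_zero.mp (pow_eq_zero_iff two_ne_zero |>.mp h')).symm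
  · exact absurd h (mul_ne_zero (R.p_ne hi) (R.p_ne hj))

/-- Separate classes. -/
theorem exists_linear_sep (hm : ∀ t, R.m t = mSep t) (Z : ι → ℂ)
    (linZ : ∀ t, ∑ i, (R.c t i : ℂ) * R.d i * Z i = 0)
    (momUZ : ∀ t, ∑ i, (R.c t i : ℂ) * R.d i * Z i * R.U i = R.g * (tieA t * (mSep t).1))
    (momWZ : ∀ t, ∑ i, (R.c t i : ℂ) * R.d i * Z i * R.W i = R.g * (tieB t * (mSep t).2.2))
    (momZZ : ∀ t, ∑ i, (R.c t i : ℂ) * R.d i * Z i * Z i = R.g * 9) :
    ∃ i, i ≠ R.o ∧ R.d i * R.d i = 1 := by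
  have hconst : ∀ t i j, R.c t i ≠ 0 → R.c t j ≠ 0 →
      Z i - (tieA t * R.U i + tieB t * R.W i) = Z j - (tieA t * R.U j + tieB t * R.W j) := by
    intro t i j hi hj
    have h01 : tieA t * tieB t = 0 ∧ tieA t ^ 2 * (mSep t).1 + tieB t ^ 2 * (mSep t).2.2 = 9 ∧
        (mSep t).2.1 = 0 ∧ (mSep t).2.2 ≠ 0 := by
      fin_cases t <;> norm_num [tieA, tieB, mSep]
    obtain ⟨hab, h9, h12, h22⟩ := h01
    have e1 := momUZ t; have e2 := momWZ t; have e3 := momZZ t; have e4 := linZ t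
    have u1 := R.linU t; have w1 := R.linW t
    have uu := R.momUU t; have uw := R.momUW t; have ww := R.momWW t
    rw [hm] at uu uw ww
    refine R.diff_eq_zero (fun x => Z x - (tieA t * R.U x + tieB t * R.W x)) ?_ ?_ ?_ ?_
      (by rw [hm]; exact h22) hi hj
    · calc _ = ∑ x, (R.c t x : ℂ) * R.d x * Z x - tieA t * ∑ x, (R.c t x : ℂ) * R.d x * R.U x -
            tieB t * ∑ x, (R.c t x : ℂ) * R.d x * R.W x := by
            simp only [Finset.mul_sum, ← Finset.sum_sub_distrib]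
            exact Finset.sum_congr rfl fun x _ => by ring
        _ = 0 := by rw [e4, u1, w1]; ring
    · calc _ = ∑ x, (R.c t x : ℂ) * R.d x * Z x * R.U x -
            tieA t * ∑ x, (R.c t x : ℂ) * R.d x * R.U x * R.U x -
            tieB t * ∑ x, (R.c t x : ℂ) * R.d x * R.U x * R.W x := by
            simp only [Finset.mul_sum, ← Finset.sum_sub_distrib]
            exact Finset.sum_congr rfl fun x _ => by ring
        _ = 0 := by rw [e1, uu, uw, h12]; ring
    · calc _ = ∑ x, (R.c t x : ℂ) * R.d x * Z x * R.W x -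
            tieA t * ∑ x, (R.c t x : ℂ) * R.d x * R.U x * R.W x -
            tieB t * ∑ x, (R.c t x : ℂ) * R.d x * R.W x * R.W x := by
            simp only [Finset.mul_sum, ← Finset.sum_sub_distrib]
            exact Finset.sum_congr rfl fun x _ => by ring
        _ = 0 := by rw [e2, uw, ww, h12]; ring
    · calc _ = ∑ x, (R.c t x : ℂ) * R.d x * Z x * Z x -
            2 * tieA t * ∑ x, (R.c t x : ℂ) * R.d x * Z x * R.U x -
            2 * tieB t * ∑ x, (R.c t x : ℂ) * R.d x * Z x * R.W x +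
            tieA t ^ 2 * ∑ x, (R.c t x : ℂ) * R.d x * R.U x * R.U x +
            tieB t ^ 2 * ∑ x, (R.c t x : ℂ) * R.d x * R.W x * R.W x +
            2 * (tieA t * tieB t) * ∑ x, (R.c t x : ℂ) * R.d x * R.U x * R.W x := by
            simp only [Finset.mul_sum, ← Finset.sum_sub_distrib, ← Finset.sum_add_distrib]
            exact Finset.sum_congr rfl fun x _ => by ring
        _ = 0 := by rw [e1, e2, e3, uu, ww, hab]; linear_combination -R.g * h9
  let E : Fin 4 → Fin 4 → ℂ → ℂ → Prop := fun t s x y =>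
    (tieA t - tieA s) * x + (tieB t - tieB s) * y = 0
  have hE : R.Edges E := by
    refine ⟨?_, ?_, ?_, ?_, ?_, ?_, ?_, ?_, ?_, ?_⟩
    · intro t s i j _ hi hj hi' hj'
      have h1 := hconst t i j hi hj
      have h2 := hconst s i j (hi' ▸ hi) (hj' ▸ hj)
      show _ = 0
      linear_combination h1 - h2
    · intro t s x y h
      show _ = 0
      linear_combination -1 * h
    all_goals intros
    all_goals simp only [E, tieA, tieB, hm, mSep, adjForm, Matrix.cons_val_zero,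
      Matrix.cons_val_one, Matrix.cons_val_two, Matrix.cons_val_three, Matrix.head_cons,
      Matrix.tail_cons, Matrix.cons_val, Fin.isValue] at *
    all_goals grind
  obtain ⟨i1, i2, i4, i6, ho1, h12, h14, h16, ho2, ho4, ho6, h26, h46,
    ⟨c01, c11, c21, c31⟩, ⟨c02, c22⟩, ⟨c14, c34⟩, c26, c36, -, -⟩ := R.pattern hE
  refine ⟨i6, ho6.symm, ?_⟩
  have hc0o : R.c 0 R.o = 1 := R.c_o 0
  have hc1o : R.c 1 R.o = 1 := R.c_o 1
  have hco : R.c 0 R.o ≠ 0 := by rw [hc0o]; norm_num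
  have c21' : R.c 2 i1 ≠ 0 := by rw [c21]; exact c01
  have c22' : R.c 2 i2 ≠ 0 := by rw [c22]; exact c02
  have e0 : E 0 1 (R.U R.o - R.U i1) (R.W R.o - R.W i1) :=
    hE.rel 0 1 i1 R.o ho1.symm c01 hco c11.symm (by rw [hc0o, hc1o])
  have e2 : E 0 2 (R.U i2 - R.U i1) (R.W i2 - R.W i1) :=
    hE.rel 0 2 i1 i2 h12 c01 c02 c21.symm c22.symm
  have e6 : E 2 3 (R.U i6 - R.U i1) (R.W i6 - R.W i1) :=
    hE.rel 2 3 i1 i6 h16 c21' c26 (c21.trans c31.symm) c36.symm
  have T0 := R.triple (t := 0) ho1.symm h12 ho2 c01 hco c02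
  have T2 := R.triple (t := 2) h12 h16 h26 c21' c22' c26
  have N0 := R.pair (t := 0) ho1.symm c01 hco
  have N2 := R.pair (t := 2) h16 c21' c26
  have hp : R.p 2 i1 = R.p 0 i1 := by simp [p, c21]
  have hpo : R.p 0 R.o = 1 := by simp [p, hc0o, R.d_o]
  rw [hp] at T2 N2
  rw [hpo] at N0
  simp only [q, adjForm, det2, hm, E, mSep, tieA, tieB, Matrix.cons_val_zero, Matrix.cons_val_one,
    Matrix.cons_val_two, Matrix.cons_val_three, Matrix.head_cons, Matrix.tail_cons,
    Matrix.cons_val, Fin.isValue] at T0 T2 N0 N2 e0 e2 e6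
  set a := R.W R.o - R.W i1
  set b := R.W i2 - R.W i1
  set y := R.W i6 - R.W i1
  have hx0 : R.U R.o - R.U i1 = a := by linear_combination (1 / 3 : ℂ) * e0
  have hx2 : R.U i2 - R.U i1 = -b := by linear_combination (1 / 3 : ℂ) * e2
  have hx6 : R.U i6 - R.U i1 = y := by linear_combination (1 / 3 : ℂ) * e6
  rw [hx0] at T0 N0
  rw [hx2] at T0 T2
  rw [hx6] at T2 N2
  have hb : b ≠ 0 := fun h => R.diff_ne (t := 0) h12 c01 c02
    (sub_eq_zero.mp (by rw [hx2, h, neg_zero])) (sub_eq_zero.mp h)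
  have hay : y = -a := by
    have : b * R.p 0 i1 * (y + a) = 0 := by linear_combination T2 - T0
    have := (mul_eq_zero.mp this).resolve_left (mul_ne_zero hb (R.p_ne c01))
    linear_combination this
  rw [hay] at N2
  have h6 : R.p 2 i6 = 1 := by
    have : R.g * R.p 0 i1 * (R.p 2 i6 - 1) = 0 := by
      linear_combination -(R.p 2 i6 / 2) * N0 + (1 / 2 : ℂ) * N2
    exact sub_eq_zero.mp ((mul_eq_zero.mp this).resolve_left (mul_ne_zero R.g_ne (R.p_ne c01)))
  have h' : R.c 2 i6 * R.d i6 = 1 := by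
    have : ((R.c 2 i6 * R.d i6 : ℤ) : ℂ) = ((1 : ℤ) : ℂ) := by push_cast; exact h6
    exact_mod_cast this
  obtain h | h | h := R.c_bound 2 i6
  · exact absurd h c26
  · rw [h, one_mul] at h'; rw [h', one_mul]
  · rw [h] at h'; nlinarith

/-- The first and third classes fused. -/
theorem exists_linear_fus (hm : ∀ t, R.m t = mFus t)
    (hcong : ∀ i, (9 : ℤ) ∣ R.d i + 4 * (R.c 0 i + R.c 1 i + R.c 2 i + R.c 3 i)) :
    ∃ i, i ≠ R.o ∧ R.d i * R.d i = 1 := by
  let E : Fin 4 → Fin 4 → ℂ → ℂ → Prop := fun t s x y =>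
    adjForm (mFus t) x y x y * det2 (mFus s) = adjForm (mFus s) x y x y * det2 (mFus t)
  have h01 : ∀ x y, E 0 1 x y → x = 4 * y ∨ x = 20 / 7 * y := by
    intro x y h
    have : (x - 4 * y) * (x - 20 / 7 * y) = 0 := by
      simp [E, mFus, adjForm, det2] at h
      linear_combination (-1 / 28 : ℂ) * h
    rcases mul_eq_zero.mp this with h | h
    exacts [Or.inl (sub_eq_zero.mp h), Or.inr (sub_eq_zero.mp h)]
  have h02 : ∀ x y, E 0 2 x y → x = -4 * y ∨ x = -20 / 7 * y := by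
    intro x y h
    have : (x - -4 * y) * (x - -20 / 7 * y) = 0 := by
      simp [E, mFus, adjForm, det2] at h
      linear_combination (-1 / 28 : ℂ) * h
    rcases mul_eq_zero.mp this with h | h
    exacts [Or.inl (sub_eq_zero.mp h), Or.inr (sub_eq_zero.mp h)]
  have h13 : ∀ x y, E 1 3 x y → x = 2 * y ∨ x = 10 * y := by
    intro x y h
    have : (x - 2 * y) * (x - 10 * y) = 0 := by
      simp [E, mFus, adjForm, det2] at h
      linear_combination (1 / 4 : ℂ) * h
    rcases mul_eq_zero.mp this with h | h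
    exacts [Or.inl (sub_eq_zero.mp h), Or.inr (sub_eq_zero.mp h)]
  have h23 : ∀ x y, E 2 3 x y → x = -2 * y ∨ x = -10 * y := by
    intro x y h
    have : (x - -2 * y) * (x - -10 * y) = 0 := by
      simp [E, mFus, adjForm, det2] at h
      linear_combination (1 / 4 : ℂ) * h
    rcases mul_eq_zero.mp this with h | h
    exacts [Or.inl (sub_eq_zero.mp h), Or.inr (sub_eq_zero.mp h)]
  have h12' : ∀ x y, E 1 2 x y → x * y = 0 := by
    intro x y h
    simp [E, mFus, adjForm, det2] at h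
    rcases h with h | h
    · linear_combination (-1 / 12 : ℂ) * h
    · norm_num at h
  have hE : R.Edges E := by
    refine ⟨?_, ?_, ?_, ?_, ?_, ?_, ?_, ?_, ?_, ?_⟩
    · intro t s i j hij hi hj hi' hj'
      have := R.agree hij hi hj hi' hj'
      simp only [q, hm] at this
      exact this
    · intro t s x y h
      simp only [E, adjForm] at h ⊢
      linear_combination h
    · intro x y x' y' h h' hq
      simp [hm, mFus, adjForm] at hq
      rcases h01 x y h with rfl | rfl <;> rcases h02 x' y' h' with rfl | rfl <;> grind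
    · intro x y x' y' h h' hq
      simp [hm, mFus, adjForm] at hq
      rcases h01 x y h with rfl | rfl <;> rcases h13 x' y' h' with rfl | rfl <;> grind
    · intro x y x' y' h h' hq
      simp [hm, mFus, adjForm] at hq
      rcases h02 x y h with rfl | rfl <;> rcases h23 x' y' h' with rfl | rfl <;> grind
    · intro x y x' y' h h' hq
      simp [hm, mFus, adjForm] at hq
      rcases h13 x y h with rfl | rfl <;> rcases h23 x' y' h' with rfl | rfl <;> grind
    · intro x y h h'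
      rcases h02 x y h with e | e <;> rcases h23 x y h' with e' | e' <;> grind
    · intro x y h h'
      rcases h13 x y h with e | e <;> rcases h23 x y h' with e' | e' <;> grind
    · intro x y h h'
      have := h12' x y h
      rcases h13 x y h' with e | e <;> grind
    · intro x y h h'
      have := h12' x y h
      rcases h23 x y h' with e | e <;> grind
  obtain ⟨i1, i2, i4, i6, ho1, h12, h14, h16, ho2, ho4, ho6, h26, h46,
    ⟨c01, c11, c21, c31⟩, ⟨c02, c22⟩, ⟨c14, c34⟩, c26, c36, c06, c16⟩ := R.pattern hE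
  refine ⟨i6, ho6.symm, ?_⟩
  have hc0o : R.c 0 R.o = 1 := R.c_o 0
  have hc1o : R.c 1 R.o = 1 := R.c_o 1
  have hco : R.c 0 R.o ≠ 0 := by rw [hc0o]; norm_num
  have hco1 : R.c 1 R.o ≠ 0 := by rw [hc1o]; norm_num
  have c11' : R.c 1 i1 ≠ 0 := by rw [c11]; exact c01
  have c21' : R.c 2 i1 ≠ 0 := by rw [c21]; exact c01
  have c31' : R.c 3 i1 ≠ 0 := by rw [c31]; exact c01
  have c22' : R.c 2 i2 ≠ 0 := by rw [c22]; exact c02
  have c34' : R.c 3 i4 ≠ 0 := by rw [c34]; exact c14
  have c36' : R.c 3 i6 ≠ 0 := by rw [c36]; exact c26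
  have eA := h01 _ _ (hE.rel 0 1 i1 R.o ho1.symm c01 hco c11.symm (by rw [hc0o, hc1o]))
  have eC := h02 _ _ (hE.rel 0 2 i1 i2 h12 c01 c02 c21.symm c22.symm)
  have eX := h13 _ _ (hE.rel 1 3 i1 i4 h14 c11' c14 (c11.trans c31.symm) c34.symm)
  have eY := h23 _ _ (hE.rel 2 3 i1 i6 h16 c21' c26 (c21.trans c31.symm) c36.symm)
  obtain ⟨A, hA, hxA⟩ : ∃ A : ℂ, (A = 4 ∨ A = 20 / 7) ∧
      R.U R.o - R.U i1 = A * (R.W R.o - R.W i1) :=
    eA.elim (fun h => ⟨_, Or.inl rfl, h⟩) (fun h => ⟨_, Or.inr rfl, h⟩)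
  obtain ⟨C, hC, hxC⟩ : ∃ C : ℂ, (C = -4 ∨ C = -20 / 7) ∧
      R.U i2 - R.U i1 = C * (R.W i2 - R.W i1) :=
    eC.elim (fun h => ⟨_, Or.inl rfl, h⟩) (fun h => ⟨_, Or.inr rfl, h⟩)
  obtain ⟨X, hX, hxX⟩ : ∃ X : ℂ, (X = 2 ∨ X = 10) ∧
      R.U i4 - R.U i1 = X * (R.W i4 - R.W i1) :=
    eX.elim (fun h => ⟨_, Or.inl rfl, h⟩) (fun h => ⟨_, Or.inr rfl, h⟩)
  obtain ⟨Y, hY, hxY⟩ : ∃ Y : ℂ, (Y = -2 ∨ Y = -10) ∧
      R.U i6 - R.U i1 = Y * (R.W i6 - R.W i1) :=
    eY.elim (fun h => ⟨_, Or.inl rfl, h⟩) (fun h => ⟨_, Or.inr rfl, h⟩)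
  have T0 := R.triple (t := 0) ho1.symm h12 ho2 c01 hco c02
  have T1 := R.triple (t := 1) ho1.symm h14 ho4 c11' hco1 c14
  have T2 := R.triple (t := 2) h12 h16 h26 c21' c22' c26
  have T3 := R.triple (t := 3) h14 h16 h46 c31' c34' c36'
  have N0 := R.pair (t := 0) ho1.symm c01 hco
  have N2 := R.pair (t := 2) h16 c21' c26
  have hpo : R.p 0 R.o = 1 := by simp [p, hc0o, R.d_o]
  rw [show R.p 1 i1 = R.p 0 i1 by simp [p, c11]] at T1
  rw [show R.p 2 i1 = R.p 0 i1 by simp [p, c21]] at T2 N2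
  rw [show R.p 3 i1 = R.p 0 i1 by simp [p, c31]] at T3
  rw [hpo] at N0
  simp only [q, adjForm, det2, hm, mFus, Matrix.cons_val_zero, Matrix.cons_val_one,
    Matrix.cons_val_two, Matrix.cons_val_three, Matrix.head_cons, Matrix.tail_cons,
    Matrix.cons_val, Fin.isValue] at T0 T1 T2 T3 N0 N2
  set a := R.W R.o - R.W i1
  set b := R.W i2 - R.W i1
  set x := R.W i4 - R.W i1
  set y := R.W i6 - R.W i1
  rw [hxA] at T0 T1 N0
  rw [hxC] at T0 T2
  rw [hxX] at T1 T3
  rw [hxY] at T2 T3 N2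
  set P := R.p 0 i1
  have hP : P ≠ 0 := R.p_ne c01
  have hne : ∀ {t : Fin 4} {i j : ι} (B : ℂ), i ≠ j → R.c t i ≠ 0 → R.c t j ≠ 0 →
      R.U j - R.U i = B * (R.W j - R.W i) → R.W j - R.W i ≠ 0 := fun B hij hi hj h h0 =>
    R.diff_ne hij hi hj (sub_eq_zero.mp (by rw [h, h0, mul_zero])) (sub_eq_zero.mp h0)
  have ha : a ≠ 0 := hne A ho1.symm c01 hco hxA
  have hb : b ≠ 0 := hne C h12 c01 c02 hxC
  have hx : x ≠ 0 := hne X h14 c11' c14 hxX
  have hy : y ≠ 0 := hne Y h16 c21' c26 hxY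
  have key1 : (64 * (A * X - 3 * (A + X) + 11) * (C * Y + 3 * (C + Y) + 11) -
      (2 * A * C + 16) * (2 * X * Y + 4)) * (a * b * x * y * P ^ 2) = 0 := by
    linear_combination (64 * (C * Y + 3 * (C + Y) + 11) * b * y * P) * T1 +
      (64 * 2 * R.g) * T2 - ((2 * X * Y + 4) * x * y * P) * T0 - (32 * R.g) * T3
  have key2 : (2 * A * C + 16) * a * 1 = 16 * (C * Y + 3 * (C + Y) + 11) * y := by
    refine mul_right_cancel₀ (mul_ne_zero hb hP) ?_
    linear_combination T0 - 16 * T2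
  set P6 := R.p 2 i6
  have key3 : R.g * (16 * (Y * Y + 6 * Y + 11) * (2 * A * C + 16) ^ 2 * ((P + 1) * P6) -
      256 * (C * Y + 3 * (C + Y) + 11) ^ 2 * (2 * A * A + 16) * (P + P6)) = 0 := by
    linear_combination (128 * (C * Y + 3 * (C + Y) + 11) ^ 2 * (2 * A * A + 16)) * N2 -
      ((Y * Y + 6 * Y + 11) * (2 * A * C + 16) ^ 2 * P6 / 2) * N0 +
      ((2 * A * A + 16) * (Y * Y + 6 * Y + 11) * P * P6 / 2) *
        ((2 * A * C + 16) * a + 16 * (C * Y + 3 * (C + Y) + 11) * y) * key2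
  have key3' := (mul_eq_zero.mp key3).resolve_left R.g_ne
  have hK : a * b * x * y * P ^ 2 ≠ 0 := by simp [ha, hb, hx, hy, hP]
  have key1' := (mul_eq_zero.mp key1).resolve_right hK
  have hcase : P6 = 1 ∨ (17 * ((P + 1) * P6) = 81 * (P + P6)) ∨
      (17 * ((P + 1) * P6) = 1617 * (P + P6)) := by
    rcases hA with rfl | rfl <;> rcases hC with rfl | rfl <;> rcases hX with rfl | rfl <;>
      rcases hY with rfl | rfl <;> first
        | (exfalso; norm_num at key1'; done)
        | (left; have : P * (P6 - 1) = 0 := by linear_combination (1 / 12288 : ℂ) * key3'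
           exact sub_eq_zero.mp ((mul_eq_zero.mp this).resolve_left hP))
        | (right; left; linear_combination (1 / 12288 : ℂ) * key3')
        | (right; right; linear_combination (2401 / 12288 : ℂ) * key3')
  have hPc : P = ((R.c 0 i1 * R.d i1 : ℤ) : ℂ) := by simp [P, p]
  have hP6c : P6 = ((R.c 2 i6 * R.d i6 : ℤ) : ℂ) := by simp [P6, p]
  have hsq := R.sq_eq_one c01
  have hsq6 := R.sq_eq_one c26
  have hz1 : ((R.c 0 i1 * R.d i1 : ℤ) : ZMod 9) = 2 := by
    have h := (ZMod.intCast_zmod_eq_zero_iff_dvd _ 9).mpr (hcong i1)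
    rw [c11, c21, c31] at h
    have hu : ((R.c 0 i1 : ℤ) : ZMod 9) * (R.c 0 i1 : ZMod 9) = 1 := by
      rw [← Int.cast_mul, hsq, Int.cast_one]
    push_cast at h ⊢
    have h16 : (-16 : ZMod 9) = 2 := by decide
    linear_combination (R.c 0 i1 : ZMod 9) * h - 16 * hu + h16
  have hz6 : ((R.c 2 i6 * R.d i6 : ℤ) : ZMod 9) = 1 ∨ ((R.c 2 i6 * R.d i6 : ℤ) : ZMod 9) = 5 := by
    have h := (ZMod.intCast_zmod_eq_zero_iff_dvd _ 9).mpr (hcong i6)
    rw [c06, c36] at h
    have hu : ((R.c 2 i6 : ℤ) : ZMod 9) * (R.c 2 i6 : ZMod 9) = 1 := by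
      rw [← Int.cast_mul, hsq6, Int.cast_one]
    push_cast at h ⊢
    have hc16 : R.c 1 i6 = 0 ∨ R.c 1 i6 = -R.c 2 i6 := by
      obtain h1 | h1 | h1 := R.c_bound 1 i6 <;> obtain h2 | h2 | h2 := R.c_bound 2 i6 <;> omega
    rcases hc16 with hc | hc <;> rw [hc] at h <;> push_cast at h
    · left
      have h8 : (-8 : ZMod 9) = 1 := by decide
      linear_combination (R.c 2 i6 : ZMod 9) * h - 8 * hu + h8
    · right
      have h4 : (-4 : ZMod 9) = 5 := by decide
      linear_combination (R.c 2 i6 : ZMod 9) * h - 4 * hu + h4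
  have h6 : R.c 2 i6 * R.d i6 = 1 := by
    rcases hcase with h | h | h
    · rw [hP6c] at h
      exact_mod_cast h
    all_goals
      exfalso
      rw [hPc, hP6c] at h
      norm_cast at h
      have h' := congrArg (fun z : ℤ => (z : ZMod 9)) h
      push_cast at h' hz1 hz6
      rw [hz1] at h'
      rcases hz6 with hz6 | hz6 <;> rw [hz6] at h' <;> revert h' <;> decide
  obtain h | h | h := R.c_bound 2 i6
  · exact absurd h c26
  · rw [h, one_mul] at h6; rw [h6, one_mul]
  · rw [h] at h6; nlinarith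

/-- The data with the two classes and the rows interchanged. -/
def swap : Data ι where
  c t := R.c (![1, 0, 3, 2] t)
  d := R.d
  o := R.o
  d_ne := R.d_ne
  d_o := R.d_o
  c_o t := by rw [R.c_o]; fin_cases t <;> rfl
  gram t s := by rw [R.gram]; fin_cases t <;> fin_cases s <;> rfl
  deg t := R.deg _
  g := R.g
  g_ne := R.g_ne
  U := R.W
  W := R.U
  m t := ((R.m (![1, 0, 3, 2] t)).2.2, (R.m (![1, 0, 3, 2] t)).2.1, (R.m (![1, 0, 3, 2] t)).1)
  det_ne t := by
    have := R.det_ne (![1, 0, 3, 2] t)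
    simp only [det2] at *
    rwa [mul_comm]
  linU t := R.linW _
  linW t := R.linU _
  momUU t := R.momWW _
  momUW t := by rw [← R.momUW]; exact Finset.sum_congr rfl fun x _ => by ring
  momWW t := R.momUU _

end Data

end Cfsg.Agent.H40.Wreath
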