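import Cfsg.Agent.H40.Wreath.Model

/-!
The normaliser of a self-centralising `3²` with dihedral Sylow 2-subgroup.
-/

set_option autoImplicit false

namespace Cfsg.Agent.H40.Wreath

theorem basisV : ∀ v : Multiplicative V,
    v = Multiplicative.ofAdd ((1, 0) : V) ^ v.toAdd.1.val *
      Multiplicative.ofAdd ((0, 1) : V) ^ v.toAdd.2.val := by
  decide +kernel

theorem basis_act :
    actHom (DihedralGroup.r 1) (Multiplicative.ofAdd (1, 0)) = Multiplicative.ofAdd (0, 1) ∧
    actHom (DihedralGroup.r 1) (Multiplicative.ofAdd (0, 1)) = (Multiplicative.ofAdd (1, 0))⁻¹ ∧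
    actHom (DihedralGroup.sr 0) (Multiplicative.ofAdd (1, 0)) = Multiplicative.ofAdd (1, 0) ∧
    actHom (DihedralGroup.sr 0) (Multiplicative.ofAdd (0, 1)) = (Multiplicative.ofAdd (0, 1))⁻¹ := by
  decide +kernel

universe u

variable {G : Type u} [Group G] [Finite G] (M : Sylow 3 G) (hM9 : Nat.card ↥(M : Subgroup G) = 9)
  (hMel : ∀ m ∈ (M : Subgroup G), m ^ 3 = 1)
  (hCM : Subgroup.centralizer ((M : Subgroup G) : Set G) = (M : Subgroup G))
include hM9 hMel hCM

omit hMel hCM in
theorem comm_of_mem {x y : G} (hx : x ∈ (M : Subgroup G)) (hy : y ∈ (M : Subgroup G)) :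
    x * y = y * x := by
  haveI : Fact (Nat.Prime 3) := ⟨Nat.prime_three⟩
  have := IsPGroup.isMulCommutative_of_card_eq_prime_sq
    (G := ↥(M : Subgroup G)) (p := 3) (by rw [hM9]; norm_num)
  exact congrArg Subtype.val (mul_comm' (⟨x, hx⟩ : ↥(M : Subgroup G)) ⟨y, hy⟩)

omit hMel in
/-- The order of the normaliser has no prime divisor above three. -/
theorem prime_dvd_normalizer {N : Subgroup G}
    (hN : N = Subgroup.normalizer ((M : Subgroup G) : Set G)) {q : ℕ} (hq : q.Prime)
    (hdvd : q ∣ Nat.card N) : q = 2 ∨ q = 3 := by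
  haveI : Fact q.Prime := ⟨hq⟩
  obtain ⟨x, hx⟩ := exists_prime_orderOf_dvd_card' q hdvd
  have hxN : (x : G) ∈ Subgroup.normalizer ((M : Subgroup G) : Set G) := hN ▸ x.2
  let P := Subgroup.zpowers x
  have hP : IsPGroup q P := IsPGroup.of_card (n := 1) (by rw [Nat.card_zpowers, hx, pow_one])
  have hnorm : ∀ y : N, ∀ m ∈ (M : Subgroup G), (y : G) * m * (y : G)⁻¹ ∈ (M : Subgroup G) :=
    fun y m hm => (Subgroup.mem_normalizer_iff.mp (hN ▸ y.2) m).mp hm
  letI : MulAction P ↥(M : Subgroup G) :=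
    { smul := fun y m => ⟨((y : N) : G) * m * ((y : N) : G)⁻¹, hnorm y m m.2⟩
      one_smul := fun m => Subtype.ext (show ((1 : N) : G) * m * ((1 : N) : G)⁻¹ = m by simp)
      mul_smul := fun y z m => Subtype.ext
        (show (((y * z : P) : N) : G) * m * (((y * z : P) : N) : G)⁻¹ =
          ((y : N) : G) * (((z : N) : G) * m * ((z : N) : G)⁻¹) * ((y : N) : G)⁻¹ by
          push_cast; group) }
  have hmod := hP.card_modEq_card_fixedPoints ↥(M : Subgroup G)
  rw [hM9] at hmod
  let C : Subgroup ↥(M : Subgroup G) :=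
    (Subgroup.centralizer ({(x : G)} : Set G)).subgroupOf (M : Subgroup G)
  have hfix : MulAction.fixedPoints P ↥(M : Subgroup G) = (C : Set ↥(M : Subgroup G)) := by
    ext m
    rw [MulAction.mem_fixedPoints, SetLike.mem_coe, Subgroup.mem_subgroupOf,
      Subgroup.mem_centralizer_singleton_iff]
    constructor
    · intro h
      have h1 : (x : G) * m * (x : G)⁻¹ = m :=
        congrArg Subtype.val (h ⟨x, Subgroup.mem_zpowers x⟩)
      exact (mul_inv_eq_iff_eq_mul.mp h1).symm
    · intro h y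
      obtain ⟨y, k, rfl⟩ := y
      refine Subtype.ext ?_
      show ((x ^ k : N) : G) * m * ((x ^ k : N) : G)⁻¹ = m
      have hc : Commute (m : G) (x : G) := h
      rw [Subgroup.coe_zpow, ((hc.zpow_right k).symm).eq, mul_inv_cancel_right]
  rw [show Nat.card (MulAction.fixedPoints P ↥(M : Subgroup G)) = Nat.card C by rw [hfix]; rfl]
    at hmod
  have hC9 : Nat.card C ∣ 9 := hM9 ▸ Subgroup.card_subgroup_dvd_card C
  have hCne : Nat.card C ≠ 9 ∨ q = 3 := by
    by_cases h : Nat.card C = 9
    · right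
      have htop : C = ⊤ := Subgroup.eq_top_of_card_eq _ (by rw [h, hM9])
      have hxM : (x : G) ∈ (M : Subgroup G) := by
        rw [← hCM, Subgroup.mem_centralizer_iff]
        intro m hm
        have hmC : (⟨m, hm⟩ : ↥(M : Subgroup G)) ∈ C := htop ▸ Subgroup.mem_top _
        exact Subgroup.mem_centralizer_singleton_iff.mp (Subgroup.mem_subgroupOf.mp hmC)
      have : q ∣ 9 := hM9 ▸ hx ▸ Subgroup.orderOf_coe x ▸
        (Subgroup.orderOf_mk (x : G) hxM ▸ orderOf_dvd_natCard _)
      exact (Nat.prime_dvd_prime_iff_eq hq Nat.prime_three).mp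
        (hq.dvd_of_dvd_pow (show q ∣ 3 ^ 2 from this))
    · exact Or.inl h
  rcases hCne with hCne | h3
  · obtain ⟨k, hk, hk'⟩ := (Nat.dvd_prime_pow Nat.prime_three).mp (show Nat.card C ∣ 3 ^ 2 from hC9)
    have hle : Nat.card C ≤ 9 := Nat.le_of_dvd (by norm_num) hC9
    have hd := (Nat.modEq_iff_dvd' hle).mp hmod.symm
    interval_cases k
    · rw [hk'] at hd
      have : q ∣ 2 ^ 3 := hd
      exact Or.inl ((Nat.prime_dvd_prime_iff_eq hq Nat.prime_two).mp (hq.dvd_of_dvd_pow this))
    · rw [hk'] at hd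
      rcases (Nat.Prime.dvd_mul hq).mp (show q ∣ 2 * 3 from hd) with h | h
      · exact Or.inl ((Nat.prime_dvd_prime_iff_eq hq Nat.prime_two).mp h)
      · exact Or.inr ((Nat.prime_dvd_prime_iff_eq hq Nat.prime_three).mp h)
    · exact absurd hk' hCne
  · exact Or.inr h3

theorem exists_iso {N : Subgroup G} (hN : N = Subgroup.normalizer ((M : Subgroup G) : Set G))
    (hS : ∀ S : Sylow 2 ↥N, Nonempty (↥(S : Subgroup ↥N) ≃* DihedralGroup 4)) :
    ∃ f : K →* G, Function.Injective f ∧ f.range = N ∧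
      ∀ k : K, k.right = 1 ↔ f k ∈ (M : Subgroup G) := by
  haveI : Fact (Nat.Prime 2) := ⟨Nat.prime_two⟩
  haveI : Fact (Nat.Prime 3) := ⟨Nat.prime_three⟩
  obtain ⟨S⟩ : Nonempty (Sylow 2 N) := inferInstance
  obtain ⟨e⟩ := hS S
  let σ : D4 →* G := N.subtype.comp ((S : Subgroup N).subtype.comp e.symm.toMonoidHom)
  have hσinj : Function.Injective σ := fun g h hgh =>
    e.symm.injective (Subtype.ext (Subtype.ext hgh))
  have hσN : ∀ g, σ g ∈ Subgroup.normalizer ((M : Subgroup G) : Set G) := fun g =>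
    hN ▸ ((e.symm g : (S : Subgroup N)) : N).2
  have hσM : ∀ g, σ g ∈ (M : Subgroup G) → g = 1 := by
    intro g hg
    apply hσinj
    rw [map_one]
    have h1 : σ g ^ 8 = 1 := by
      rw [← map_pow, show g ^ 8 = 1 by
        rw [show (8 : ℕ) = Fintype.card D4 from (DihedralGroup.card (n := 4)).symm]; exact pow_card_eq_one,
        map_one]
    have h2 := hMel _ hg
    calc σ g = (σ g ^ 3) ^ 3 * (σ g ^ 8)⁻¹ := by group
      _ = 1 := by rw [h1, h2]; simp
  have hconj : ∀ g, ∀ m ∈ (M : Subgroup G), σ g * m * (σ g)⁻¹ ∈ (M : Subgroup G) :=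
    fun g m hm => (Subgroup.mem_normalizer_iff.mp (hσN g) m).mp hm
  -- the central involution inverts `M`
  set zz := σ (DihedralGroup.r 2)
  set rr := σ (DihedralGroup.r 1)
  set ss := σ (DihedralGroup.sr 0)
  have hz2 : zz * zz = 1 := by
    rw [← map_mul, show (DihedralGroup.r 2 : D4) * DihedralGroup.r 2 = 1 by decide, map_one]
  have hrr : rr * rr = zz := by
    rw [← map_mul]; rfl
  have hzinv : ∀ m ∈ (M : Subgroup G), zz * m * zz⁻¹ = m⁻¹ := by
    let I : Subgroup G :=
      { carrier := {m | m ∈ (M : Subgroup G) ∧ zz * m * zz⁻¹ = m⁻¹}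
        mul_mem' := fun {x y} hx hy => ⟨mul_mem hx.1 hy.1, by
          rw [← conj_mul, hx.2, hy.2, mul_inv_rev,
            comm_of_mem M hM9 (inv_mem hx.1) (inv_mem hy.1)]⟩
        one_mem' := ⟨one_mem _, by simp⟩
        inv_mem' := fun {x} hx => ⟨inv_mem hx.1, by rw [← conj_inv, hx.2]⟩ }
    have hIM : I ≤ (M : Subgroup G) := fun x hx => hx.1
    have hIdvd : Nat.card I ∣ 3 ^ 2 := by
      have := Subgroup.card_dvd_of_le hIM
      rwa [hM9] at this
    obtain ⟨k, hk, hk'⟩ := (Nat.dvd_prime_pow Nat.prime_three).mp hIdvd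
    have hI9 : Nat.card I = 9 := by
      interval_cases k
      · exfalso
        have hbot : I = ⊥ := Subgroup.eq_bot_of_card_eq _ (by simpa using hk')
        have hall : zz ∈ Subgroup.centralizer ((M : Subgroup G) : Set G) := by
          rw [Subgroup.mem_centralizer_iff]
          intro m hm
          have hd : zz * m * zz⁻¹ * m⁻¹ ∈ I := ⟨mul_mem (hconj _ m hm) (inv_mem hm), by
            have hzi : zz⁻¹ = zz := inv_eq_of_mul_eq_one_right hz2
            calc zz * (zz * m * zz⁻¹ * m⁻¹) * zz⁻¹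
                = (zz * zz) * m * (zz⁻¹ * m⁻¹ * zz⁻¹) := by group
              _ = m * (zz⁻¹ * m⁻¹ * zz⁻¹) := by rw [hz2, one_mul]
              _ = m * (zz * m⁻¹ * zz⁻¹) := by rw [hzi]
              _ = (zz * m * zz⁻¹ * m⁻¹)⁻¹ := by group⟩
          rw [hbot, Subgroup.mem_bot, mul_inv_eq_one] at hd
          exact (mul_inv_eq_iff_eq_mul.mp hd).symm
        rw [hCM] at hall
        exact absurd (hσM _ hall) (by decide)
      · exfalso
        rw [pow_one] at hk'
        haveI : IsCyclic I := isCyclic_of_prime_card hk'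
        obtain ⟨⟨c, hc⟩, hgen⟩ := IsCyclic.exists_generator (α := I)
        have hrc : rr * c * rr⁻¹ ∈ I := ⟨hconj _ c hc.1, by
          calc zz * (rr * c * rr⁻¹) * zz⁻¹ = (zz * rr) * c * (zz * rr)⁻¹ := by group
            _ = (rr * zz) * c * (rr * zz)⁻¹ := by
              rw [← map_mul, ← map_mul]; rfl
            _ = rr * (zz * c * zz⁻¹) * rr⁻¹ := by group
            _ = (rr * c * rr⁻¹)⁻¹ := by rw [hc.2]; group⟩
        obtain ⟨n, hn⟩ := Subgroup.mem_zpowers_iff.mp (hgen ⟨_, hrc⟩)
        have hn' : c ^ n = rr * c * rr⁻¹ := by simpa using congrArg Subtype.val hn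
        have h3 : c ^ (3 : ℕ) = 1 := hMel c hc.1
        have hcases : rr * c * rr⁻¹ = 1 ∨ rr * c * rr⁻¹ = c ∨ rr * c * rr⁻¹ = c⁻¹ := by
          rw [← hn', zpow_eq_zpow_emod' n h3]
          have h0 := Int.emod_nonneg n (show (3 : ℤ) ≠ 0 by norm_num)
          have h4 := Int.emod_lt_of_pos n (show (0 : ℤ) < 3 by norm_num)
          obtain h | h | h : n % 3 = 0 ∨ n % 3 = 1 ∨ n % 3 = 2 := by omega
          · left; push_cast; rw [h, zpow_zero]
          · right; left; push_cast; rw [h, zpow_one]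
          · right; right
            push_cast
            rw [h]
            refine eq_inv_of_mul_eq_one_left ?_
            rw [← zpow_add_one, show (2 : ℤ) + 1 = ((3 : ℕ) : ℤ) by norm_num, zpow_natCast, h3]
        have hzc : zz * c * zz⁻¹ = c := by
          rw [← hrr, show rr * rr * c * (rr * rr)⁻¹ = rr * (rr * c * rr⁻¹) * rr⁻¹ by group]
          rcases hcases with h | h | h
          · have : c = 1 := by
              rw [conj_eq_one_iff] at h; exact h
            simp [this]
          · rw [h, h]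
          · rw [h, ← conj_inv, h, inv_inv]
        have hcc : c ^ 2 = 1 := by
          have h2 := hc.2
          rw [hzc] at h2
          rw [sq]
          nth_rewrite 2 [h2]
          exact mul_inv_cancel c
        have hc1 : c = 1 := by rw [← h3, pow_succ, hcc, one_mul]
        have hsub : Nat.card I = 1 := by
          rw [Nat.card_eq_one_iff_unique]
          refine ⟨⟨fun x y => ?_⟩, inferInstance⟩
          obtain ⟨i, hi⟩ := Subgroup.mem_zpowers_iff.mp (hgen x)
          obtain ⟨j, hj⟩ := Subgroup.mem_zpowers_iff.mp (hgen y)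
          have h1 : (⟨c, hc⟩ : I) = 1 := Subtype.ext hc1
          rw [← hi, ← hj, h1, one_zpow, one_zpow]
        rw [hk'] at hsub
        norm_num at hsub
      · exact hk'
    intro m hm
    have : I = (M : Subgroup G) := Subgroup.eq_of_le_of_card_ge hIM (by rw [hI9, hM9])
    exact (this.symm ▸ hm : m ∈ I).2
  -- a vector fixed by the reflection
  have hs2 : ss * ss = 1 := by
    rw [← map_mul, show (DihedralGroup.sr 0 : D4) * DihedralGroup.sr 0 = 1 by decide, map_one]
  obtain ⟨a, haM, ha1, hsa⟩ : ∃ a ∈ (M : Subgroup G), a ≠ 1 ∧ ss * a * ss⁻¹ = a := by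
    by_contra hc
    push_neg at hc
    have hall : ∀ m ∈ (M : Subgroup G), ss * m * ss⁻¹ = m⁻¹ := by
      intro m hm
      have hd : ss * (m * (ss * m * ss⁻¹)) * ss⁻¹ = m * (ss * m * ss⁻¹) := by
        have hsi : ss⁻¹ = ss := inv_eq_of_mul_eq_one_right hs2
        calc ss * (m * (ss * m * ss⁻¹)) * ss⁻¹ = (ss * m * ss⁻¹) * ((ss * ss) * m * (ss * ss)⁻¹) := by
              group
          _ = (ss * m * ss⁻¹) * m := by rw [hs2, inv_one, one_mul, mul_one]
          _ = m * (ss * m * ss⁻¹) := comm_of_mem M hM9 (hconj _ m hm) hm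
      have h1 : m * (ss * m * ss⁻¹) = 1 := by
        by_contra hne
        exact hc _ (mul_mem hm (hconj _ m hm)) hne hd
      exact eq_inv_of_mul_eq_one_right h1
    have : ss * zz ∈ Subgroup.centralizer ((M : Subgroup G) : Set G) := by
      rw [Subgroup.mem_centralizer_iff]
      intro m hm
      have : ss * zz * m * (ss * zz)⁻¹ = m := by
        calc ss * zz * m * (ss * zz)⁻¹ = ss * (zz * m * zz⁻¹) * ss⁻¹ := by group
          _ = ss * m⁻¹ * ss⁻¹ := by rw [hzinv m hm]
          _ = m := by rw [← conj_inv, hall m hm, inv_inv]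
      exact (mul_inv_eq_iff_eq_mul.mp this).symm
    rw [hCM, ← map_mul] at this
    exact absurd (hσM _ this) (by decide)
  set b := rr * a * rr⁻¹ with hbdef
  have hbM : b ∈ (M : Subgroup G) := hconj _ a haM
  have hb1 : b ≠ 1 := fun h => ha1 (conj_eq_one_iff.mp h)
  have hsb : ss * b * ss⁻¹ = b⁻¹ := by
    have e1 : ss * rr = rr * zz * ss := by
      rw [← map_mul, ← map_mul, ← map_mul]; rfl
    calc ss * b * ss⁻¹ = (ss * rr) * a * (ss * rr)⁻¹ := by rw [hbdef]; group
      _ = rr * (zz * (ss * a * ss⁻¹) * zz⁻¹) * rr⁻¹ := by rw [e1]; group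
      _ = b⁻¹ := by rw [hsa, hzinv a haM, hbdef]; group
  have hrb : rr * b * rr⁻¹ = a⁻¹ := by
    rw [show rr * b * rr⁻¹ = rr * rr * a * (rr * rr)⁻¹ by rw [hbdef]; group, hrr, hzinv a haM]
  let F : Multiplicative V →* G :=
    { toFun := fun v => a ^ v.toAdd.1.val * b ^ v.toAdd.2.val
      map_one' := by simp
      map_mul' := fun v w => by
        simp only [toAdd_mul, Prod.fst_add, Prod.snd_add, ZMod.val_add]
        rw [← pow_eq_pow_mod _ (hMel a haM), ← pow_eq_pow_mod _ (hMel b hbM), pow_add, pow_add]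
        have := comm_of_mem M hM9 (pow_mem haM w.toAdd.1.val) (pow_mem hbM v.toAdd.2.val)
        rw [mul_assoc (a ^ v.toAdd.1.val), ← mul_assoc (a ^ w.toAdd.1.val), this]
        group }
  have hFM : ∀ v, F v ∈ (M : Subgroup G) := fun v =>
    mul_mem (pow_mem haM _) (pow_mem hbM _)
  let va : Multiplicative V := Multiplicative.ofAdd (1, 0)
  let vb : Multiplicative V := Multiplicative.ofAdd (0, 1)
  have hFa : F va = a := by
    show a ^ (1 : ZMod 3).val * b ^ (0 : ZMod 3).val = a
    simp [show (1 : ZMod 3).val = 1 from rfl]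
  have hFb : F vb = b := by
    show a ^ (0 : ZMod 3).val * b ^ (1 : ZMod 3).val = b
    simp [show (1 : ZMod 3).val = 1 from rfl]
  let P : D4 → Prop := fun g => ∀ v, F (actHom g v) = σ g * F v * (σ g)⁻¹
  have hPmul : ∀ g h, P g → P h → P (g * h) := by
    intro g h hg hh v
    rw [map_mul, MulAut.mul_apply, hg, hh, map_mul]
    group
  have hgen : ∀ g, (∀ v ∈ [va, vb], F (actHom g v) = σ g * F v * (σ g)⁻¹) → P g := by
    intro g hg v
    have hv : ∀ v : Multiplicative V, v = va ^ v.toAdd.1.val * vb ^ v.toAdd.2.val := basisV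
    rw [hv v]
    simp only [map_mul, map_pow, hg va (by simp), hg vb (by simp), conj_pow]
    group
  have hPr : P (DihedralGroup.r 1) := hgen _ (by
    intro v hv
    simp only [List.mem_cons, List.not_mem_nil, or_false] at hv
    rcases hv with rfl | rfl
    · rw [show actHom (DihedralGroup.r 1) va = vb from basis_act.1, hFa, hFb]
    · rw [show actHom (DihedralGroup.r 1) vb = va⁻¹ from basis_act.2.1, map_inv, hFa, hFb, hrb])
  have hPs : P (DihedralGroup.sr 0) := hgen _ (by
    intro v hv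
    simp only [List.mem_cons, List.not_mem_nil, or_false] at hv
    rcases hv with rfl | rfl
    · rw [show actHom (DihedralGroup.sr 0) va = va from basis_act.2.2.1, hFa, hsa]
    · rw [show actHom (DihedralGroup.sr 0) vb = vb⁻¹ from basis_act.2.2.2, map_inv, hFb, hsb])
  have hPall : ∀ g, P g := by
    have hpow : ∀ n : ℕ, P ((DihedralGroup.r 1) ^ n) := by
      intro n
      induction n with
      | zero => intro v; simp
      | succ n ih => rw [pow_succ]; exact hPmul _ _ ih hPr
    have hd : ∀ g : D4, ∃ n : Fin 4, g = DihedralGroup.r 1 ^ n.val ∨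
        g = DihedralGroup.sr 0 * DihedralGroup.r 1 ^ n.val := by decide
    intro g
    obtain ⟨n, rfl | rfl⟩ := hd g
    exacts [hpow _, hPmul _ _ hPs (hpow _)]
  let f : K →* G := SemidirectProduct.lift F σ (fun g => MonoidHom.ext fun v => by
    simpa using hPall g v)
  have hf : ∀ k : K, f k = F k.left * σ k.right := fun k => rfl
  have hFinj : ∀ v, F v = 1 → v = 1 := by
    intro v hv
    have hn : ∀ (i j : ℕ), a ^ i * b ^ j = 1 → a ^ i * b ^ j * (a ^ i * (b⁻¹) ^ j) = 1 := by
      intro i j h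
      have : ss * (a ^ i * b ^ j) * ss⁻¹ = 1 := by rw [h]; group
      rw [← conj_mul, ← conj_pow, ← conj_pow, hsa, hsb] at this
      rw [h, this, one_mul]
    have h := hn v.toAdd.1.val v.toAdd.2.val hv
    have hc := comm_of_mem M hM9 (pow_mem hbM v.toAdd.2.val) (pow_mem haM v.toAdd.1.val)
    rw [mul_assoc, ← mul_assoc (b ^ _), hc, mul_assoc, inv_pow, mul_inv_cancel, mul_one,
      ← pow_add] at h
    have hoa : orderOf a = 3 := orderOf_eq_prime (hMel a haM) ha1
    have hob : orderOf b = 3 := orderOf_eq_prime (hMel b hbM) hb1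
    have hi : v.toAdd.1.val = 0 := by
      have := orderOf_dvd_of_pow_eq_one h
      rw [hoa] at this
      have := ZMod.val_lt v.toAdd.1
      omega
    have hj : v.toAdd.2.val = 0 := by
      have h' : a ^ v.toAdd.1.val * b ^ v.toAdd.2.val = 1 := hv
      rw [hi, pow_zero, one_mul] at h'
      have := orderOf_dvd_of_pow_eq_one h'
      rw [hob] at this
      have := ZMod.val_lt v.toAdd.2
      omega
    rw [ZMod.val_eq_zero] at hi hj
    show v = 1
    exact Prod.ext hi hj
  have hfinj : Function.Injective f := by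
    rw [injective_iff_map_eq_one]
    intro k hk
    rw [hf] at hk
    have hr : k.right = 1 := hσM _ (by
      rw [eq_inv_of_mul_eq_one_right hk]; exact inv_mem (hFM _))
    rw [hr, map_one, mul_one] at hk
    exact SemidirectProduct.ext (hFinj _ hk) hr
  have hle : f.range ≤ N := by
    rintro _ ⟨k, rfl⟩
    rw [hf, hN]
    exact mul_mem (Subgroup.le_normalizer (hFM _)) (hσN _)
  have hS8 : Nat.card (S : Subgroup N) = 8 := by
    rw [Nat.card_congr e.toEquiv, DihedralGroup.nat_card]
  have h72 : Nat.card f.range = 72 := by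
    rw [← Nat.card_congr (MonoidHom.ofInjective hfinj).toEquiv, Nat.card_eq_fintype_card, card_K]
  have hpos : Nat.card N ≠ 0 := Nat.card_pos.ne'
  have hN72 : Nat.card N = 72 := by
    have hd : (72 : ℕ) ∣ Nat.card N := h72 ▸ Subgroup.card_dvd_of_le hle
    have h2 : ¬ 2 ∣ (S : Subgroup N).index := S.not_dvd_index
    have hmul := Subgroup.card_mul_index (S : Subgroup N)
    rw [hS8] at hmul
    have hMN : (M : Subgroup G) ≤ N := hN ▸ Subgroup.le_normalizer
    have h3 : ¬ 3 ∣ Nat.card N / 9 := by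
      intro h
      have hiG : ¬ 3 ∣ (M : Subgroup G).index := M.not_dvd_index
      have h27 : 27 ∣ Nat.card G := by
        refine dvd_trans ?_ (Subgroup.card_subgroup_dvd_card N)
        obtain ⟨c, hc⟩ := h
        obtain ⟨d, hd'⟩ := hd
        exact ⟨c, by omega⟩
      have hm := Subgroup.card_mul_index (M : Subgroup G)
      rw [hM9] at hm
      omega
    obtain ⟨c, hc⟩ := hd
    by_contra hne
    have hc1 : c ≠ 1 := fun h => hne (by rw [hc, h, mul_one])
    obtain ⟨q, hq, hqc⟩ := Nat.exists_prime_and_dvd hc1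
    rcases prime_dvd_normalizer M hM9 hCM hN hq (hc ▸ Dvd.dvd.mul_left hqc 72) with rfl | rfl
    · obtain ⟨c', rfl⟩ := hqc
      exact h2 ⟨9 * c', by omega⟩
    · obtain ⟨c', rfl⟩ := hqc
      exact h3 ⟨8 * c', by omega⟩
  refine ⟨f, hfinj, Subgroup.eq_of_le_of_card_ge hle (by rw [h72, hN72]), fun k => ⟨fun h => ?_, fun h => ?_⟩⟩
  · rw [hf, h, map_one, mul_one]
    exact hFM _
  · rw [hf] at h
    refine hσM _ ?_
    have := mul_mem (inv_mem (hFM k.left)) h
    rwa [inv_mul_cancel_left] at this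

end Cfsg.Agent.H40.Wreath
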