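import Cfsg.Agent.H40.Exceptional.Pairs
import Cfsg.Agent.H40.Wreath.Chars
import Cfsg.Agent.H40.Wreath.Endgame
import Cfsg.Agent.H40.Wreath.Iso

/-!
A group with self-centralising `3²` and normaliser `S₃ ≀ 2` is not simple.
-/

set_option autoImplicit false

open scoped ComplexConjugate

namespace Cfsg.Agent.H40.Wreath

open Exceptional (Special SuppOn)

universe u

variable {G : Type u} [Group G] [Fintype G]

theorem classInner_model {N : Subgroup G} [Fintype N] (ψ : K ≃* N) (f g : K → ℤ) :
    Cfsg.classInner (fun h : N => (f (ψ.symm h) : ℂ)) (fun h : N => (g (ψ.symm h) : ℂ)) =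
      ((∑ k : K, f k * g k : ℤ) : ℂ) / 72 := by
  unfold Cfsg.classInner
  have hcard : Nat.card N = 72 := by
    rw [← Nat.card_congr ψ.toEquiv, Nat.card_eq_fintype_card, card_K]
  rw [hcard, ← Equiv.sum_comp ψ.toEquiv]
  simp only [MulEquiv.toEquiv_eq_coe, MulEquiv.coe_toEquiv, MulEquiv.symm_apply_apply, map_intCast]
  push_cast
  ring

theorem classInner_model_irr {N : Subgroup G} [Fintype N] (ψ : K ≃* N) (f : K → ℤ) (χ : G → ℂ) :
    Cfsg.classInner (fun h : N => (f (ψ.symm h) : ℂ)) (fun h : N => χ h) =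
      (∑ k : K, (f k : ℂ) * conj (χ (ψ k : G))) / 72 := by
  unfold Cfsg.classInner
  have hcard : Nat.card N = 72 := by
    rw [← Nat.card_congr ψ.toEquiv, Nat.card_eq_fintype_card, card_K]
  rw [hcard, ← Equiv.sum_comp ψ.toEquiv]
  simp only [MulEquiv.toEquiv_eq_coe, MulEquiv.coe_toEquiv, MulEquiv.symm_apply_apply]
  push_cast
  ring

omit [Fintype G] in
theorem not_simple_of_linear {G : Type u} [Group G] [Finite G] (M : Subgroup G)
    (hCM : Subgroup.centralizer (M : Set G) = M) (hM : Nat.card M = 9) (hG : 9 < Nat.card G)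
    (θ : G →* ℂˣ) (hθ : θ ≠ 1) : ¬ IsSimpleGroup G := by
  intro hs
  rcases hs.eq_bot_or_eq_top_of_normal θ.ker inferInstance with h | h
  · have hinj := (MonoidHom.ker_eq_bot_iff θ).mp h
    have hc : Subgroup.centralizer (M : Set G) = ⊤ := by
      refine top_le_iff.mp fun g _ => ?_
      rw [Subgroup.mem_centralizer_iff]
      exact fun m _ => hinj (by rw [map_mul, map_mul, mul_comm])
    rw [hCM] at hc
    rw [hc, Subgroup.card_top] at hM
    omega
  · exact hθ ((MonoidHom.ker_eq_top_iff).mp h)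

/-- The main theorem in terms of a copy of the model. -/
theorem exists_linear (f : K →* G) (hfi : Function.Injective f) (M : Subgroup G)
    (hM : ∀ k : K, k.right = 1 ↔ f k ∈ M) (hMN : M ≤ f.range)
    (hN : Subgroup.normalizer (M : Set G) = f.range)
    (hC : ∀ t ∈ M, t ≠ 1 → Subgroup.centralizer ({t} : Set G) ≤ f.range) :
    ∃ θ : G →* ℂˣ, θ ≠ 1 := by
  classical
  set N := f.range
  haveI : Fintype N := Fintype.ofFinite N
  let ψ : K ≃* N := MonoidHom.ofInjective hfi
  have hψ : ∀ k, (ψ k : G) = f k := fun k => rfl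
  have hcardN : Nat.card N = 72 := by
    rw [← Nat.card_congr ψ.toEquiv, Nat.card_eq_fintype_card, card_K]
  have hcommV : ∀ k l : K, k.right = 1 → l.right = 1 → k * l = l * k := by
    intro k l hk hl
    refine SemidirectProduct.ext ?_ (by simp [hk, hl])
    simp [SemidirectProduct.mul_left, hk, hl, mul_comm]
  set D : Set G := {x | ∃ k : K, f k = x ∧ k ^ 4 ≠ 1}
  have hs : Special N D := by
    refine ⟨?_, ?_, ?_⟩
    · rintro _ ⟨k, rfl, -⟩; exact ⟨k, rfl⟩
    · rintro _ ⟨k, rfl, hk⟩ g ⟨l, hl, hl4⟩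
      have ht' : f (l ^ 4) ∈ M := (hM _).mp (pow_four_right l)
      have hne : f (l ^ 4) ≠ 1 := fun h => hl4 (hfi (h.trans (map_one f).symm))
      have hsub : ∀ x ∈ M, g * x * g⁻¹ ∈ M := by
        intro x hx
        obtain ⟨a, rfl⟩ := hMN hx
        have hca : a * k ^ 4 = k ^ 4 * a := hcommV _ _ ((hM a).mpr hx) (pow_four_right k)
        obtain ⟨b, hb⟩ := hC _ ht' hne (show g * f a * g⁻¹ ∈ Subgroup.centralizer ({f (l ^ 4)} : Set G) by
          rw [Subgroup.mem_centralizer_singleton_iff, map_pow, hl, conj_pow, ← map_pow]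
          calc g * f a * g⁻¹ * (g * f (k ^ 4) * g⁻¹) = g * f (a * k ^ 4) * g⁻¹ := by
                rw [map_mul]; group
            _ = g * f (k ^ 4) * g⁻¹ * (g * f a * g⁻¹) := by rw [hca, map_mul]; group)
        rw [← hb]
        refine (hM b).mp (cube_right b (hfi ?_))
        have ha3 : ∀ a : K, a.right = 1 → a ^ 3 = 1 := by decide +kernel
        rw [map_pow, hb, map_one, conj_pow, ← map_pow, ha3 a ((hM a).mpr hx), map_one, mul_one,
          mul_inv_cancel]
      rw [← hN, Subgroup.mem_normalizer_iff]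
      have hmap : M.map (MulAut.conj g).toMonoidHom = M := by
        refine Subgroup.eq_of_le_of_card_ge ?_ ?_
        · rintro _ ⟨x, hx, rfl⟩
          simpa using hsub x hx
        · rw [Subgroup.card_map_of_injective (MulAut.conj g).injective]
      intro x
      refine ⟨fun hx => hsub x hx, fun hx => ?_⟩
      rw [← hmap] at hx
      obtain ⟨y, hy, he⟩ := hx
      have : y = x := (MulAut.conj g).injective (by simpa using he)
      exact this ▸ hy
    · rintro _ ⟨k, rfl, hk⟩
      exact ⟨k⁻¹, map_inv f k, by rw [inv_pow, ne_eq, inv_eq_one]; exact hk⟩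
  let A : Fin 4 → N → ℂ := fun t h => (α t (ψ.symm h) : ℂ)
  have hA : ∀ t, Cfsg.IsGeneralizedCharacter N (A t) := fun t =>
    CharCore.isGeneralized_comp (isGeneralized_alpha t) ψ.symm.toMonoidHom
  have hAD : ∀ t, SuppOn N D (A t) := by
    intro t h hh
    have : ψ.symm h ^ 4 = 1 := by
      by_contra hc
      exact hh ⟨ψ.symm h, by rw [← hψ, MulEquiv.apply_symm_apply], hc⟩
    show (α t (ψ.symm h) : ℂ) = 0
    rw [alpha_supp t _ this, Int.cast_zero]
  have hnc : ¬ IsConj (f invU) (f invW) := by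
    have hd : ∀ (s : K) (a b : Fin 4), (∀ k : K, α a k - α b k ≠ 0 →
          α a k - α b k = 6 ∧ ∃ g : K, g * s * g⁻¹ = k) →
        (∑ k : K, (α a k - α b k) = 72) → (∃ g : K, g * s * g⁻¹ = s⁻¹) → ∀ χ : Cfsg.IrrCharacter G,
        Cfsg.classInner (A a - A b) (fun h : N => (χ : G → ℂ) h) = (χ : G → ℂ) (f s) := by
      intro s a b h hsum hreal χ
      have he : (A a - A b) = fun h : N => ((fun k => α a k - α b k) (ψ.symm h) : ℂ) := by
        funext h; simp [A]
      rw [he]
      refine (classInner_model_irr ψ (fun k => α a k - α b k) _).trans ?_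
      have hpt : ∀ k : K, ((α a k - α b k : ℤ) : ℂ) * conj ((χ : G → ℂ) (ψ k : G)) =
          ((α a k - α b k : ℤ) : ℂ) * conj ((χ : G → ℂ) (f s)) := by
        intro k
        by_cases hk : α a k - α b k = 0
        · simp [hk]
        · obtain ⟨g, hg⟩ := (h k hk).2
          rw [hψ, ← hg, map_mul f (g * _), map_mul f g, map_inv, CharCore.irr_isClassFunction χ]
      rw [Finset.sum_congr rfl fun k _ => hpt k, ← Finset.sum_mul, ← CharCore.irr_apply_inv χ,
        ← Int.cast_sum, hsum]
      obtain ⟨g, hg⟩ := hreal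
      rw [← map_inv, ← hg, map_mul f (g * _), map_mul f g, map_inv, CharCore.irr_isClassFunction χ]
      push_cast
      ring
    have hdeq : ∀ a b : Fin 4, (A a - A b) =
        fun h : N => ((fun k => α a k - α b k) (ψ.symm h) : ℂ) := fun a b => by
      funext h; simp [A]
    have hreal : ∀ s : K, (∃ g : K, g * s * g⁻¹ = s⁻¹) → IsConj (f s) (f s)⁻¹ := by
      rintro s ⟨g, hg⟩
      exact isConj_iff.mpr ⟨f g, by rw [← map_inv, ← map_inv, ← map_mul, ← map_mul, hg]⟩
    have hnorm : ∀ (a b a' b' : Fin 4) (v : ℤ),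
        (∑ k : K, (α a k - α b k) * (α a' k - α b' k) = 72 * v) →
        Cfsg.classInner (A a - A b) (A a' - A b') = (v : ℂ) := by
      intro a b a' b' v h
      rw [hdeq, hdeq]
      refine (classInner_model ψ (fun k => α a k - α b k) (fun k => α a' k - α b' k)).trans ?_
      rw [h]
      push_cast
      ring
    have hg2 : ∀ a b a' b' : Fin 4, ∑ k : K, (α a k - α b k) * (α a' k - α b' k) =
        72 * (gramK a a' - gramK a b' - gramK b a' + gramK b b') := by
      intro a b a' b'
      simp only [sub_mul, mul_sub, Finset.sum_sub_distrib, alpha_gram]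
      ring
    have hsuppd : ∀ a b, SuppOn N D (A a - A b) := fun a b h hh => by
      simp [hAD a h hh, hAD b h hh]
    intro hconj
    refine Exceptional.not_isConj_of_norm_six hs (CharCore.isGeneralized_sub (hA 0) (hA 3))
      (CharCore.isGeneralized_sub (hA 1) (hA 2)) (hsuppd 0 3) (hsuppd 1 2) ?_ ?_ ?_
      (g := f auElt) (g' := f wcElt) (by rw [← map_pow, au_facts.1, map_one])
      (by rw [← map_pow, wc_facts.1, map_one]) (hreal _ au_facts.2.2) (hreal _ wc_facts.2.2)
      (hd _ 0 3 delta_au delta_au_sum au_facts.2.2) (hd _ 1 2 delta_wc delta_wc_sum wc_facts.2.2) ?_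
    · exact (hnorm 0 3 0 3 6 (by rw [hg2]; decide)).trans (by norm_num)
    · exact (hnorm 1 2 1 2 6 (by rw [hg2]; decide)).trans (by norm_num)
    · exact (hnorm 0 3 1 2 0 (by rw [hg2]; decide)).trans (by norm_num)
    · rw [← map_pow, au_facts.2.1, ← map_pow, wc_facts.2.1]; exact hconj
  -- coefficients and degrees
  choose c hc using fun t => Exceptional.exists_coeff (G := G) (hA t)
  choose d hdpos hd using fun χ : Cfsg.IrrCharacter G => CharCore.IsIrrCharacter.exists_degree χ.2
  let o : Cfsg.IrrCharacter G := ⟨1, CharCore.isIrrCharacter_one⟩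
  have hexp : ∀ t (z : G), Cfsg.indFun N (A t) z = ∑ χ : Cfsg.IrrCharacter G, (c t χ : ℂ) * (χ : G → ℂ) z :=
    fun t z => by
      conv_lhs => rw [CharCore.eq_sum_classInner (CharInd.isClassFunction_indFun N (A t))]
      simp [Finset.sum_apply, smul_eq_mul, hc]
  have hAc := fun t => CharCore.IsGeneralizedCharacter.isClassFunction (hA t)
  have hgram : ∀ t s, ∑ χ, c t χ * c s χ = gramRows t s := by
    intro t s
    have h := CharCore.classInner_eq_sum (CharInd.isClassFunction_indFun N (A t))
      (CharInd.isClassFunction_indFun N (A s))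
    rw [Exceptional.classInner_indFun hs (hAD t) (hAc s) (hAD s)] at h
    simp only [hc, map_intCast] at h
    rw [show A t = fun h : N => (α t (ψ.symm h) : ℂ) from rfl,
      show A s = fun h : N => (α s (ψ.symm h) : ℂ) from rfl, classInner_model ψ, alpha_gram] at h
    have h2 : ((∑ χ, c t χ * c s χ : ℤ) : ℂ) = ((gramK t s : ℤ) : ℂ) := by
      push_cast at h ⊢
      linear_combination -h
    exact_mod_cast h2
  have hco : ∀ t, c t o = ![1, 1, 0, 0] t := by
    intro t
    have h : Cfsg.classInner (Cfsg.indFun N (A t)) (o : G → ℂ) = ((![1, 1, 0, 0] t : ℤ) : ℂ) := by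
      rw [CharInd.classInner_indFun_left _ _ (CharCore.irr_isClassFunction o)]
      show Cfsg.classInner (fun h : N => (α t (ψ.symm h) : ℂ)) (fun _ : N => (1 : ℂ)) = _
      have h' := classInner_model ψ (α t) (fun _ => 1)
      simp only [Int.cast_one, mul_one] at h'
      rw [h', alpha_total]
      push_cast
      ring
    rw [hc t o] at h
    exact_mod_cast h
  have hind0 : ∀ (t : Fin 4) (z : G), z * z = 1 → Cfsg.indFun N (A t) z = 0 := by
    intro t z hz
    rw [CharInd.indFun_apply, Finset.sum_eq_zero, mul_zero]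
    intro g _
    by_cases hm : g⁻¹ * z * g ∈ N
    · rw [CharInd.extendByZero_mem _ hm]
      refine hAD t _ ?_
      rintro ⟨k, hk, hk4⟩
      refine hk4 (hfi ?_)
      rw [map_pow, hk, map_one]
      show (g⁻¹ * z * g) ^ 4 = 1
      rw [show g⁻¹ * z * g = g⁻¹ * z * g⁻¹⁻¹ by rw [inv_inv], conj_pow, show z ^ 4 = (z * z) * (z * z) by simp only [pow_succ, pow_zero, one_mul, mul_assoc],
        hz]
      group
    · exact CharInd.extendByZero_notMem _ hm
  let κ : Fin 3 → ℂ := fun X => (Nat.card {x : G // IsConj (f (inv3 X)) x} : ℂ)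
  let V : Fin 3 → Cfsg.IrrCharacter G → ℂ := fun X χ => κ X * (χ : G → ℂ) (f (inv3 X)) / (d χ : ℂ)
  have hdne : ∀ χ, (d χ : ℂ) ≠ 0 := fun χ => Nat.cast_ne_zero.mpr (hdpos χ).ne'
  have hsq : ∀ X, f (inv3 X) * f (inv3 X) = 1 := fun X => by rw [← map_mul, inv3_sq, map_one]
  have hlin : ∀ t X, ∑ χ, (c t χ : ℂ) * ((d χ : ℤ) : ℂ) * V X χ = 0 := by
    intro t X
    calc _ = κ X * ∑ χ : Cfsg.IrrCharacter G, (c t χ : ℂ) * (χ : G → ℂ) (f (inv3 X)) := by
          rw [Finset.mul_sum]
          exact Finset.sum_congr rfl fun χ _ => by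
            have := hdne χ
            simp only [V, Int.cast_natCast]
            field_simp
      _ = 0 := by rw [← hexp, hind0 t _ (hsq X), mul_zero]
  let C : Fin 3 → Fin 3 → ℤ := fun X Y => if IsConj (f (inv3 X)) (f (inv3 Y)) then 1 else 0
  have hind : ∀ X (k : K), BlocksCore.classInd (f (inv3 X)) (f k) =
      ∑ Y, (C X Y : ℂ) * (if typ k = some Y then 1 else 0) := by
    intro X k
    by_cases hk : k * k = 1 ∧ k ≠ 1
    · obtain ⟨Y, hY, g, hg⟩ := typ_conj k hk.1 hk.2
      have hYk : IsConj (f (inv3 Y)) (f k) :=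
        isConj_iff.mpr ⟨f g, by rw [← map_inv, ← map_mul, ← map_mul, hg]⟩
      rw [Finset.sum_eq_single Y (fun Y' _ hne => by simp [hY, hne.symm]) (by simp), if_pos hY,
        mul_one]
      by_cases h : IsConj (f (inv3 X)) (f k)
      · rw [BlocksCore.classInd_apply_of_isConj h]
        simp only [C]
        rw [if_pos (h.trans hYk.symm), Int.cast_one]
      · rw [BlocksCore.classInd_apply_of_not_isConj h]
        simp only [C]
        rw [if_neg (fun h' => h (h'.trans hYk)), Int.cast_zero]
    · have hnone : typ k = none := typ_none k ((em (k = 1)).elim Or.inr fun h1 => Or.inl fun h2 => hk ⟨h2, h1⟩)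
      rw [BlocksCore.classInd_apply_of_not_isConj]
      · simp [hnone]
      · intro h
        obtain ⟨g, hg⟩ := isConj_iff.mp h
        refine hk ⟨hfi ?_, fun h1 => inv3_ne X (hfi ?_)⟩
        · rw [map_mul, map_one, ← hg, conj_mul, hsq X]; group
        · rw [h1, map_one] at hg
          rw [map_one]
          exact conj_eq_one_iff.mp hg
  have hmom : ∀ t X Y, ∑ χ, (c t χ : ℂ) * ((d χ : ℤ) : ℂ) * V X χ * V Y χ =
      (Nat.card G : ℂ) / 2 * (((∑ i, ∑ j, C X i * C Y j * table t i j : ℤ) : ℂ) / 36) := by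
    intro t X Y
    have h := Exceptional.sum_coeff_pairs hs (hAD t) (hsq X) (hsq Y)
    simp only [hc] at h
    have hl : ∑ χ, (c t χ : ℂ) * ((d χ : ℤ) : ℂ) * V X χ * V Y χ =
        ∑ χ : Cfsg.IrrCharacter G, (c t χ : ℂ) * (κ X * κ Y * (χ : G → ℂ) (f (inv3 X)) *
          (χ : G → ℂ) (f (inv3 Y)) / (χ : G → ℂ) 1) :=
      Finset.sum_congr rfl fun χ _ => by
        have := hdne χ
        simp only [V, Int.cast_natCast, hd]
        field_simp
    rw [hl, h, hcardN]
    have hsum : ∑ s : N, ∑ u : N, BlocksCore.classInd (f (inv3 X)) (s : G) *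
        BlocksCore.classInd (f (inv3 Y)) (u : G) * A t (s * u) =
        ((∑ i, ∑ j, C X i * C Y j * table t i j : ℤ) : ℂ) := by
      have htr : ∀ F : N → ℂ, ∑ s : N, F s = ∑ k : K, F (ψ k) := fun F =>
        (Equiv.sum_comp ψ.toEquiv F).symm
      calc _ = ∑ k : K, ∑ l : K, ∑ i : Fin 3, ∑ j : Fin 3,
              (if typ k = some i then if typ l = some j then
                (C X i : ℂ) * (C Y j : ℂ) * (α t (k * l) : ℂ) else 0 else 0) := by
            rw [htr]
            refine Finset.sum_congr rfl fun k _ => ?_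
            rw [htr]
            refine Finset.sum_congr rfl fun l _ => ?_
            rw [hψ, hψ, hind, hind, Finset.sum_mul_sum, Finset.sum_mul]
            refine Finset.sum_congr rfl fun i _ => ?_
            rw [Finset.sum_mul]
            refine Finset.sum_congr rfl fun j _ => ?_
            show _ * (α t (ψ.symm (ψ k * ψ l)) : ℂ) = _
            rw [← map_mul, MulEquiv.symm_apply_apply]
            split_ifs <;> ring
        _ = ∑ i : Fin 3, ∑ j : Fin 3, ∑ k : K, ∑ l : K,
              (if typ k = some i then if typ l = some j then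
                (C X i : ℂ) * (C Y j : ℂ) * (α t (k * l) : ℂ) else 0 else 0) := by
            rw [Finset.sum_congr rfl fun k _ => Finset.sum_comm, Finset.sum_comm]
            refine Finset.sum_congr rfl fun i _ => ?_
            rw [Finset.sum_congr rfl fun k _ => Finset.sum_comm, Finset.sum_comm]
        _ = _ := by
            rw [Int.cast_sum]
            refine Finset.sum_congr rfl fun i _ => ?_
            rw [Int.cast_sum]
            refine Finset.sum_congr rfl fun j _ => ?_
            rw [← alpha_table t i j, Int.cast_mul, Int.cast_mul, Int.cast_sum, Finset.mul_sum,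
              Finset.sum_filter]
            refine Finset.sum_congr rfl fun k _ => ?_
            by_cases h1 : typ k = some i
            · simp only [h1, if_true]
              rw [Int.cast_sum, Finset.mul_sum, Finset.sum_filter]
            · simp [h1]
    rw [hsum]
    push_cast
    ring
  have hdeg : ∀ t, ∑ χ, c t χ * (d χ : ℤ) = 0 := by
    intro t
    have h := (hexp t 1).symm.trans (hind0 t 1 (one_mul 1))
    simp only [hd] at h
    exact_mod_cast h
  have hcong : ∀ χ, (9 : ℤ) ∣ (d χ : ℤ) + 4 * (c 0 χ + c 1 χ + c 2 χ + c 3 χ) := by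
    intro χ
    let g : Multiplicative (ZMod 3 × ZMod 3) →* G := f.comp SemidirectProduct.inl
    have hg : Cfsg.IsGeneralizedCharacter (Multiplicative (ZMod 3 × ZMod 3)) (fun v => (χ : G → ℂ) (g v)) :=
      CharCore.isGeneralized_comp (CharCore.irr_isGeneralized χ) g
    obtain ⟨m, hm⟩ := CharCore.IsGeneralizedCharacter.exists_classInner_eq_intCast
      (CharCore.isGeneralized_one (G := Multiplicative (ZMod 3 × ZMod 3))) hg
    unfold Cfsg.classInner at hm
    rw [show Nat.card (Multiplicative (ZMod 3 × ZMod 3)) = 9 by simp [Nat.card_prod]] at hm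
    simp only [Pi.one_apply, one_mul] at hm
    have hS : (∑ t : Fin 4, (c t χ : ℂ)) =
        (∑ v : Multiplicative (ZMod 3 × ZMod 3), conj ((χ : G → ℂ) (g v)) - (d χ : ℂ)) / 4 := by
      have ht : ∀ t, (c t χ : ℂ) = (∑ k : K, (α t k : ℂ) * conj ((χ : G → ℂ) (f k))) / 72 := by
        intro t
        rw [← hc t χ, CharInd.classInner_indFun_left _ _ (CharCore.irr_isClassFunction χ)]
        exact classInner_model_irr ψ (α t) χ
      rw [Fin.sum_univ_four, ht 0, ht 1, ht 2, ht 3, ← add_div, ← add_div, ← add_div,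
        ← Finset.sum_add_distrib, ← Finset.sum_add_distrib, ← Finset.sum_add_distrib]
      have hpt : ∀ k : K, (α 0 k : ℂ) * conj ((χ : G → ℂ) (f k)) +
          (α 1 k : ℂ) * conj ((χ : G → ℂ) (f k)) + (α 2 k : ℂ) * conj ((χ : G → ℂ) (f k)) +
          (α 3 k : ℂ) * conj ((χ : G → ℂ) (f k)) =
          18 * (if k.right = 1 ∧ k.left ≠ 1 then conj ((χ : G → ℂ) (f k)) else 0) := by
        intro k
        have h := congrArg (fun z : ℤ => (z : ℂ)) (alpha_sum_val k)
        push_cast at h
        rw [← add_mul, ← add_mul, ← add_mul, h]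
        split_ifs <;> ring
      rw [Finset.sum_congr rfl fun k _ => hpt k, ← Finset.mul_sum, ← Finset.sum_filter]
      have hsum : ∑ k ∈ Finset.univ.filter (fun k : K => k.right = 1 ∧ k.left ≠ 1),
          conj ((χ : G → ℂ) (f k)) = ∑ v ∈ Finset.univ.erase (1 : Multiplicative (ZMod 3 × ZMod 3)),
          conj ((χ : G → ℂ) (g v)) :=
        Finset.sum_bij' (fun k _ => k.left) (fun v _ => SemidirectProduct.inl v)
          (fun k hk => Finset.mem_erase.mpr ⟨(Finset.mem_filter.mp hk).2.2, Finset.mem_univ _⟩)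
          (fun v hv => Finset.mem_filter.mpr ⟨Finset.mem_univ _, SemidirectProduct.right_inl v,
            by simpa using (Finset.mem_erase.mp hv).1⟩)
          (fun k hk => SemidirectProduct.ext (by simp) (by simp [(Finset.mem_filter.mp hk).2.1]))
          (fun v _ => SemidirectProduct.left_inl v)
          (fun k hk => by
            show _ = conj ((χ : G → ℂ) (f (SemidirectProduct.inl k.left)))
            rw [show SemidirectProduct.inl k.left = k from SemidirectProduct.ext (by simp)
              (by simp [(Finset.mem_filter.mp hk).2.1])])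
      rw [hsum, ← Finset.sum_erase_add _ _ (Finset.mem_univ (1 : Multiplicative (ZMod 3 × ZMod 3))), map_one, hd,
        map_natCast]
      ring
    rw [Fin.sum_univ_four] at hS
    refine ⟨m, ?_⟩
    have hZ : (((d χ : ℤ) + 4 * (c 0 χ + c 1 χ + c 2 χ + c 3 χ) : ℤ) : ℂ) = ((9 * m : ℤ) : ℂ) := by
      push_cast
      rw [hS, ← hm]
      push_cast
      ring
    exact_mod_cast hZ
  let mk : (Fin 4 → ℂ × ℂ × ℂ) → Fin 3 → Fin 3 → Prop := fun m X Y =>
    ∀ t, (m t).1 = ((∑ i, ∑ j, C X i * C X j * table t i j : ℤ) : ℂ) / 36 ∧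
      (m t).2.1 = ((∑ i, ∑ j, C X i * C Y j * table t i j : ℤ) : ℂ) / 36 ∧
      (m t).2.2 = ((∑ i, ∑ j, C Y i * C Y j * table t i j : ℤ) : ℂ) / 36
  have build : ∀ m : Fin 4 → ℂ × ℂ × ℂ, (∀ t, det2 (m t) ≠ 0) → mk m 0 1 →
      ∃ R : Data (Cfsg.IrrCharacter G), R.m = m ∧ R.c = c ∧ R.d = (fun χ => (d χ : ℤ)) ∧ R.o = o ∧
        R.U = V 0 ∧ R.W = V 1 ∧ R.g = (Nat.card G : ℂ) / 2 := fun m hm hmk =>
    ⟨{ c := c
       d := fun χ => (d χ : ℤ)
       o := o
       d_ne := fun χ => by simpa using (hdpos χ).ne'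
       d_o := by
         have h := hd o
         simp only [o, Pi.one_apply] at h
         exact_mod_cast h.symm
       c_o := hco
       gram := hgram
       deg := hdeg
       g := (Nat.card G : ℂ) / 2
       g_ne := by simp [Nat.card_pos.ne']
       U := V 0
       W := V 1
       m := m
       det_ne := hm
       linU := fun t => hlin t 0
       linW := fun t => hlin t 1
       momUU := fun t => by rw [(hmk t).1]; exact hmom t 0 0
       momUW := fun t => by rw [(hmk t).2.1]; exact hmom t 0 1
       momWW := fun t => by rw [(hmk t).2.2]; exact hmom t 1 1 }, rfl, rfl, rfl, rfl, rfl, rfl, rfl⟩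
  have hrefl : ∀ X, C X X = 1 := fun X => if_pos (IsConj.refl _)
  have hsymm : ∀ X Y, C X Y = C Y X := fun X Y => by
    simp only [C]
    by_cases h : IsConj (f (inv3 X)) (f (inv3 Y))
    · rw [if_pos h, if_pos h.symm]
    · rw [if_neg h, if_neg fun h' => h h'.symm]
  have hC01 : C 0 1 = 0 := if_neg hnc
  obtain ⟨χ, hχo, hχ1⟩ : ∃ χ, χ ≠ o ∧ (d χ : ℤ) * (d χ : ℤ) = 1 := by
    by_cases hzu : IsConj (f (inv3 0)) (f (inv3 2))
    · have h02 : C 0 2 = 1 := if_pos hzu
      have h12 : C 1 2 = 0 := if_neg fun h => hnc (hzu.trans h.symm)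
      obtain ⟨R, hm, hcR, hdR, hoR, -⟩ := build mFus
        (fun t => by fin_cases t <;> norm_num [mFus, det2])
        (fun t => by
          fin_cases t <;> norm_num [mFus, table, Fin.sum_univ_three, Matrix.cons_val_two, Matrix.tail_cons, Matrix.head_cons, hrefl, hsymm 1 0, hsymm 2 0,
            hsymm 2 1, hC01, h02, h12])
      obtain ⟨χ, h1, h2⟩ := R.exists_linear_fus (fun t => by rw [hm]) (fun χ => by
        rw [hcR, hdR]; exact hcong χ)
      rw [hoR] at h1; rw [hdR] at h2
      exact ⟨χ, h1, h2⟩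
    · have h02 : C 0 2 = 0 := if_neg hzu
      by_cases hzw : IsConj (f (inv3 1)) (f (inv3 2))
      · have h12 : C 1 2 = 1 := if_pos hzw
        obtain ⟨R, hm, hcR, hdR, hoR, -⟩ := build ![(1, 3, 11), (2, 0, 16), (2, 0, 4), (1, -3, 11)]
          (fun t => by fin_cases t <;> norm_num [det2])
          (fun t => by
            fin_cases t <;> norm_num [table, Fin.sum_univ_three, Matrix.cons_val_two, Matrix.tail_cons, Matrix.head_cons, hrefl, hsymm 1 0, hsymm 2 0,
              hsymm 2 1, hC01, h02, h12])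
        obtain ⟨χ, h1, h2⟩ := R.swap.exists_linear_fus
          (fun t => by fin_cases t <;> simp [Data.swap, hm, mFus])
          (fun χ => by
            show (9 : ℤ) ∣ R.d χ + 4 * (R.c 1 χ + R.c 0 χ + R.c 3 χ + R.c 2 χ)
            rw [hcR, hdR,
              show c 1 χ + c 0 χ + c 3 χ + c 2 χ = c 0 χ + c 1 χ + c 2 χ + c 3 χ by ring]
            exact hcong χ)
        have h1' : χ ≠ R.o := h1
        have h2' : R.d χ * R.d χ = 1 := h2
        rw [hoR] at h1'; rw [hdR] at h2'
        exact ⟨χ, h1', h2'⟩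
      · have h12 : C 1 2 = 0 := if_neg hzw
        obtain ⟨R, hm, hcR, hdR, hoR, hU, hW, hg⟩ := build mSep
          (fun t => by fin_cases t <;> norm_num [mSep, det2])
          (fun t => by
            fin_cases t <;> norm_num [mSep, table, Fin.sum_univ_three, Matrix.cons_val_two, Matrix.tail_cons, Matrix.head_cons, hrefl, hsymm 1 0, hsymm 2 0,
              hsymm 2 1, hC01, h02, h12])
        obtain ⟨χ, h1, h2⟩ := R.exists_linear_sep (fun t => by rw [hm]) (V 2)
          (fun t => by rw [hcR, hdR]; exact hlin t 2)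
          (fun t => by
            rw [hcR, hdR, hU, hg, hmom t 2 0]
            fin_cases t <;> norm_num [mSep, tieA, table, Fin.sum_univ_three, Matrix.cons_val_two, Matrix.tail_cons, Matrix.head_cons, hrefl, hsymm 1 0,
              hsymm 2 0, hsymm 2 1, hC01, h02, h12])
          (fun t => by
            rw [hcR, hdR, hW, hg, hmom t 2 1]
            fin_cases t <;> norm_num [mSep, tieB, table, Fin.sum_univ_three, Matrix.cons_val_two, Matrix.tail_cons, Matrix.head_cons, hrefl, hsymm 1 0,
              hsymm 2 0, hsymm 2 1, hC01, h02, h12])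
          (fun t => by
            rw [hcR, hdR, hg, hmom t 2 2]
            fin_cases t <;> norm_num [table, Fin.sum_univ_three, Matrix.cons_val_two, Matrix.tail_cons, Matrix.head_cons, hrefl, hsymm 1 0,
              hsymm 2 0, hsymm 2 1, hC01, h02, h12])
        rw [hoR] at h1; rw [hdR] at h2
        exact ⟨χ, h1, h2⟩
  have hd1 : d χ = 1 := Nat.eq_one_of_mul_eq_one_right (by exact_mod_cast hχ1 : d χ * d χ = 1)
  obtain ⟨θ, hθ⟩ := CharCore.IsCharacter.exists_hom_of_degree_one (CharCore.irr_isCharacter χ)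
    (by rw [hd, hd1, Nat.cast_one])
  refine ⟨θ, fun h => hχo (Subtype.ext ?_)⟩
  show (χ : G → ℂ) = 1
  rw [hθ, h]
  funext g
  simp

end Cfsg.Agent.H40.Wreath
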