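import Mathlib
import Cfsg.Prelude

/-!
The group `3² : D₈ ≅ S₃ ≀ 2` and four functions on it.
-/

set_option autoImplicit false

namespace Cfsg.Agent.H40.Wreath

open DihedralGroup

abbrev V := ZMod 3 × ZMod 3
abbrev D4 := DihedralGroup 4

/-- Quarter turn. -/
def rot (x : V) : V := (-x.2, x.1)

/-- The monomial action. -/
def act : D4 → V → V
  | r i, x => rot^[i.val] x
  | sr i, x => ((rot^[i.val] x).1, -(rot^[i.val] x).2)

theorem act_one : ∀ x : V, act 1 x = x := by decide +kernel
theorem act_mul : ∀ (g h : D4) (x : V), act (g * h) x = act g (act h x) := by decide +kernel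
theorem act_add : ∀ (g : D4) (x y : V), act g (x + y) = act g x + act g y := by decide +kernel

/-- The action as automorphisms. -/
def actHom : D4 →* MulAut (Multiplicative V) where
  toFun g :=
    { toFun := fun x => Multiplicative.ofAdd (act g x.toAdd)
      invFun := fun x => Multiplicative.ofAdd (act g⁻¹ x.toAdd)
      left_inv := fun x => by
        show Multiplicative.ofAdd (act g⁻¹ (act g x.toAdd)) = x
        rw [← act_mul, inv_mul_cancel, act_one]; rfl
      right_inv := fun x => by
        show Multiplicative.ofAdd (act g (act g⁻¹ x.toAdd)) = x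
        rw [← act_mul, mul_inv_cancel, act_one]; rfl
      map_mul' := fun x y => congrArg Multiplicative.ofAdd (act_add g x.toAdd y.toAdd) }
  map_one' := MulEquiv.ext fun x => congrArg Multiplicative.ofAdd (act_one x.toAdd)
  map_mul' g h := MulEquiv.ext fun x => congrArg Multiplicative.ofAdd (act_mul g h x.toAdd)

abbrev K := SemidirectProduct (Multiplicative V) D4 actHom

instance : DecidableEq K := fun a b =>
  decidable_of_iff (a.left = b.left ∧ a.right = b.right) SemidirectProduct.ext_iff.symm

instance : Fintype K := Fintype.ofEquiv _ SemidirectProduct.equivProd.symm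

/-- The element with coordinates `x` and `g`. -/
def mk (x : V) (g : D4) : K := ⟨Multiplicative.ofAdd x, g⟩

def invU : K := mk 0 (sr 0)
def invW : K := mk 0 (sr 3)
def invZ : K := mk 0 (r 2)
def auElt : K := mk (1, 0) (sr 0)
def wcElt : K := mk (1, 1) (sr 3)

/-- The representatives of the three classes of involutions. -/
def inv3 : Fin 3 → K := ![invU, invW, invZ]

/-- The class of an involution. -/
def typ (k : K) : Option (Fin 3) :=
  if k * k = 1 then
    match k.right with
    | r i => if i = 2 then some 2 else none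
    | sr i => if i = 0 ∨ i = 2 then some 0 else some 1
  else none

theorem typ_inv3 : ∀ i, typ (inv3 i) = some i := by decide +kernel
theorem inv3_sq : ∀ i, inv3 i * inv3 i = 1 := by decide +kernel
theorem inv3_ne : ∀ i, inv3 i ≠ 1 := by decide +kernel
theorem typ_conj : ∀ k : K, k * k = 1 → k ≠ 1 →
    ∃ i : Fin 3, typ k = some i ∧ ∃ g : K, g * inv3 i * g⁻¹ = k := by decide +kernel
theorem typ_none : ∀ k : K, k * k ≠ 1 ∨ k = 1 → typ k = none := by decide +kernel

/-- Points of the six point action. -/
def six (k : K) (p : Fin 2 × ZMod 3) : Fin 2 × ZMod 3 :=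
  let v := k.left.toAdd
  let e := act k.right (if p.1 = 0 then (1, 0) else (0, 1))
  let y := act k.right (if p.1 = 0 then (p.2, 0) else (0, p.2))
  if e.2 = 0 then (0, v.1 + y.1) else (1, v.2 + y.2)

/-- The affine action. -/
def nine (k : K) (x : V) : V := k.left.toAdd + act k.right x

/-- The action on the four axis vectors. -/
def four : D4 → ZMod 4 → ZMod 4
  | r i, x => x + i
  | sr i, x => -(x + i)

theorem six_one : ∀ p, six 1 p = p := by decide +kernel
theorem six_mul : ∀ (g h : K) p, six (g * h) p = six g (six h p) := by decide +kernel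
theorem nine_one : ∀ p, nine 1 p = p := by decide +kernel
theorem nine_mul (g h : K) (p : V) : nine (g * h) p = nine g (nine h p) := by
  show g.left.toAdd + act g.right h.left.toAdd + act (g.right * h.right) p =
    g.left.toAdd + act g.right (h.left.toAdd + act h.right p)
  rw [act_mul, act_add, add_assoc]
theorem four_one : ∀ p, four 1 p = p := by decide +kernel
theorem four_mul : ∀ (g h : D4) p, four (g * h) p = four g (four h p) := by decide +kernel

/-- The sign `e`. -/
def sgE : D4 → ℤ
  | r _ => 1
  | sr _ => -1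

/-- The sign `p`. -/
def sgP : D4 → ℤ
  | r i => (-1) ^ i.val
  | sr i => (-1) ^ i.val

theorem sgE_mul : ∀ g h, sgE (g * h) = sgE g * sgE h := by decide +kernel
theorem sgP_mul : ∀ g h, sgP (g * h) = sgP g * sgP h := by decide +kernel
theorem sgE_sq : ∀ g, sgE g * sgE g = 1 := by decide +kernel
theorem sgP_sq : ∀ g, sgP g * sgP g = 1 := by decide +kernel

def fixSix (k : K) : ℕ := Fintype.card {p : Fin 2 × ZMod 3 // six k p = p}
def fixNine (k : K) : ℕ := Fintype.card {p : V // nine k p = p}
def fixFour (k : K) : ℕ := Fintype.card {p : ZMod 4 // four k.right p = p}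

/-- The four functions. -/
def α : Fin 4 → K → ℤ :=
  ![fun k => fixFour k - fixSix k + 1 + sgP k.right,
    fun k => sgE k.right * sgP k.right + fixFour k + fixSix k - fixNine k - 2 * sgP k.right,
    fun k => sgP k.right *
      (sgE k.right * sgP k.right + fixFour k + fixSix k - fixNine k - 2 * sgP k.right),
    fun k => sgE k.right * (fixFour k - fixSix k + 1 + sgP k.right)]

/-- The Gram matrix. -/
def gramK : Fin 4 → Fin 4 → ℤ := ![![4, 2, 2, 1], ![2, 4, 1, 2], ![2, 1, 4, 2], ![1, 2, 2, 4]]

theorem card_K : Fintype.card K = 72 := by decide +kernel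
theorem alpha_supp : ∀ t (k : K), k ^ 4 = 1 → α t k = 0 := by decide +kernel
theorem alpha_gram : ∀ t s, ∑ k : K, α t k * α s k = 72 * gramK t s := by decide +kernel
theorem alpha_total : ∀ t, ∑ k : K, α t k = 72 * ![1, 1, 0, 0] t := by decide +kernel
theorem alpha_sum_val : ∀ k : K, α 0 k + α 1 k + α 2 k + α 3 k =
    if k.right = 1 ∧ k.left ≠ 1 then 18 else 0 := by decide +kernel

theorem delta_au : ∀ k : K, α 0 k - α 3 k ≠ 0 →
    α 0 k - α 3 k = 6 ∧ ∃ g : K, g * auElt * g⁻¹ = k := by decide +kernel
theorem delta_wc : ∀ k : K, α 1 k - α 2 k ≠ 0 →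
    α 1 k - α 2 k = 6 ∧ ∃ g : K, g * wcElt * g⁻¹ = k := by decide +kernel
theorem delta_au_sum : ∑ k : K, (α 0 k - α 3 k) = 72 := by decide +kernel
theorem delta_wc_sum : ∑ k : K, (α 1 k - α 2 k) = 72 := by decide +kernel
theorem au_facts : auElt ^ 6 = 1 ∧ auElt ^ 3 = invU ∧ ∃ g : K, g * auElt * g⁻¹ = auElt⁻¹ := by
  decide +kernel
theorem wc_facts : wcElt ^ 6 = 1 ∧ wcElt ^ 3 = invW ∧ ∃ g : K, g * wcElt * g⁻¹ = wcElt⁻¹ := by
  decide +kernel
theorem cube_right : ∀ k : K, k ^ 3 = 1 → k.right = 1 := by decide +kernel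
theorem pow_four_right : ∀ k : K, (k ^ 4).right = 1 := by decide +kernel

/-- The local class algebra table. -/
def table : Fin 4 → Fin 3 → Fin 3 → ℤ :=
  ![![![36, 0, 108], ![0, 72, 0], ![108, 0, 324]],
    ![![72, 0, 0], ![0, 36, 108], ![0, 108, 324]],
    ![![72, 0, 0], ![0, 36, -108], ![0, -108, 324]],
    ![![36, 0, -108], ![0, 72, 0], ![-108, 0, 324]]]

theorem alpha_table : ∀ t i j, ∑ s ∈ Finset.univ.filter (fun k : K => typ k = some i),
    ∑ u ∈ Finset.univ.filter (fun k : K => typ k = some j), α t (s * u) = table t i j := by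
  decide +kernel

end Cfsg.Agent.H40.Wreath
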