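import Cfsg.Agent.H40.Wreath.Algebra

/-!
Four vectors of norm four with the moments of two (or three) class sums.
-/

set_option autoImplicit false

namespace Cfsg.Agent.H40.Wreath

/-- The Gram matrix of the four rows. -/
def gramRows : Fin 4 → Fin 4 → ℤ := ![![4, 2, 2, 1], ![2, 4, 1, 2], ![2, 1, 4, 2], ![1, 2, 2, 4]]

/-- Coefficient rows `c`, degrees `d`, and values `U`, `W` with second moments `m`. -/
structure Data (ι : Type*) [Fintype ι] where
  c : Fin 4 → ι → ℤ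
  d : ι → ℤ
  o : ι
  d_ne : ∀ i, d i ≠ 0
  d_o : d o = 1
  c_o : ∀ t, c t o = ![1, 1, 0, 0] t
  gram : ∀ t s, ∑ i, c t i * c s i = gramRows t s
  deg : ∀ t, ∑ i, c t i * d i = 0
  g : ℂ
  g_ne : g ≠ 0
  U : ι → ℂ
  W : ι → ℂ
  m : Fin 4 → ℂ × ℂ × ℂ
  det_ne : ∀ t, det2 (m t) ≠ 0
  linU : ∀ t, ∑ i, (c t i : ℂ) * d i * U i = 0
  linW : ∀ t, ∑ i, (c t i : ℂ) * d i * W i = 0
  momUU : ∀ t, ∑ i, (c t i : ℂ) * d i * U i * U i = g * (m t).1
  momUW : ∀ t, ∑ i, (c t i : ℂ) * d i * U i * W i = g * (m t).2.1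
  momWW : ∀ t, ∑ i, (c t i : ℂ) * d i * W i * W i = g * (m t).2.2

variable {ι : Type*} [Fintype ι]

namespace Data

variable (R : Data ι)

/-- The weight of `i` in row `t`. -/
noncomputable def p (t : Fin 4) (i : ι) : ℂ := (R.c t i : ℂ) * R.d i

/-- The value of the form of row `t` on two differences. -/
noncomputable def q (t : Fin 4) (i j k l : ι) : ℂ :=
  adjForm (R.m t) (R.U i - R.U j) (R.W i - R.W j) (R.U k - R.U l) (R.W k - R.W l)

theorem c_bound (t : Fin 4) (i : ι) : R.c t i = 0 ∨ R.c t i = 1 ∨ R.c t i = -1 := by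
  classical
  have h4 : ∑ j, R.c t j * R.c t j = 4 := by rw [R.gram]; revert t; decide
  have hrest : R.c t i * R.c t i + ∑ j ∈ Finset.univ.erase i, R.c t j * R.c t j = 4 := by
    exact (Finset.add_sum_erase Finset.univ (fun j => R.c t j * R.c t j)
      (Finset.mem_univ i)).trans h4
  have hpos : 0 ≤ ∑ j ∈ Finset.univ.erase i, R.c t j * R.c t j :=
    Finset.sum_nonneg fun j _ => mul_self_nonneg _
  have hlo : -2 ≤ R.c t i := by nlinarith
  have hhi : R.c t i ≤ 2 := by nlinarith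
  interval_cases hc : R.c t i <;> try simp
  all_goals
    exfalso
    have hz : ∀ j ∈ Finset.univ.erase i, R.c t j * R.c t j = 0 :=
      (Finset.sum_eq_zero_iff_of_nonneg fun j _ => mul_self_nonneg _).mp (by linarith)
    have hd := R.deg t
    rw [← Finset.add_sum_erase _ _ (Finset.mem_univ i), Finset.sum_eq_zero fun j hj => by
      rw [mul_self_eq_zero.mp (hz j hj), zero_mul]] at hd
    have := R.d_ne i
    rw [hc] at hd
    omega

theorem p_ne {t : Fin 4} {i : ι} (h : R.c t i ≠ 0) : R.p t i ≠ 0 :=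
  mul_ne_zero (Int.cast_ne_zero.mpr h) (Int.cast_ne_zero.mpr (R.d_ne i))

open scoped Classical in
/-- The support of a row. -/
noncomputable def supp (t : Fin 4) : Finset ι := Finset.univ.filter fun i => R.c t i ≠ 0

theorem mem_supp {t : Fin 4} {i : ι} : i ∈ R.supp t ↔ R.c t i ≠ 0 := by
  classical
  simp [supp]

theorem sq_eq_one {t : Fin 4} {i : ι} (h : R.c t i ≠ 0) : R.c t i * R.c t i = 1 := by
  obtain h0 | h0 | h0 := R.c_bound t i <;> simp_all

theorem card_supp (t : Fin 4) : (R.supp t).card = 4 := by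
  classical
  have h : ∑ i, R.c t i * R.c t i = 4 := by rw [R.gram]; revert t; decide
  rw [← Finset.sum_subset (Finset.subset_univ (R.supp t)) (fun i _ hi => by
      rw [not_not.mp (fun hne => hi (R.mem_supp.mpr hne)), zero_mul]),
    Finset.sum_congr rfl (fun i hi => R.sq_eq_one (R.mem_supp.mp hi)), Finset.sum_const,
    nsmul_eq_mul, mul_one] at h
  exact_mod_cast h

theorem exists_complete {t : Fin 4} {i j : ι} (hij : i ≠ j) (hi : R.c t i ≠ 0) (hj : R.c t j ≠ 0) :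
    ∃ k l, R.c t k ≠ 0 ∧ R.c t l ≠ 0 ∧ k ≠ i ∧ k ≠ j ∧ l ≠ i ∧ l ≠ j ∧ k ≠ l := by
  classical
  have hc : ((R.supp t).erase i |>.erase j).card = 2 := by
    rw [Finset.card_erase_of_mem (Finset.mem_erase.mpr ⟨hij.symm, R.mem_supp.mpr hj⟩),
      Finset.card_erase_of_mem (R.mem_supp.mpr hi), R.card_supp]
  obtain ⟨k, l, hkl, he⟩ := Finset.card_eq_two.mp hc
  have hk : k ∈ ((R.supp t).erase i).erase j := by rw [he]; simp
  have hl : l ∈ ((R.supp t).erase i).erase j := by rw [he]; simp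
  simp only [Finset.mem_erase, R.mem_supp] at hk hl
  exact ⟨k, l, hk.2.2, hl.2.2, hk.2.1, hk.1, hl.2.1, hl.1, hkl⟩

theorem sum_four {t : Fin 4} {i j k l : ι} (hi : R.c t i ≠ 0) (hj : R.c t j ≠ 0)
    (hk : R.c t k ≠ 0) (hl : R.c t l ≠ 0) (hij : i ≠ j) (hik : i ≠ k) (hil : i ≠ l) (hjk : j ≠ k)
    (hjl : j ≠ l) (hkl : k ≠ l) (f : ι → ℂ) :
    ∑ x, (R.c t x : ℂ) * R.d x * f x =
      R.p t i * f i + R.p t j * f j + R.p t k * f k + R.p t l * f l := by
  classical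
  have he : ({i, j, k, l} : Finset ι) = R.supp t := by
    refine Finset.eq_of_subset_of_card_le ?_ ?_
    · intro x hx
      simp only [Finset.mem_insert, Finset.mem_singleton] at hx
      rcases hx with rfl | rfl | rfl | rfl <;> exact R.mem_supp.mpr (by assumption)
    · rw [R.card_supp, Finset.card_insert_of_notMem (by simp [hij, hik, hil]),
        Finset.card_insert_of_notMem (by simp [hjk, hjl]),
        Finset.card_insert_of_notMem (by simp [hkl]), Finset.card_singleton]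
  rw [← Finset.sum_subset (Finset.subset_univ ({i, j, k, l} : Finset ι)) (fun x _ hx => by
      rw [he] at hx
      rw [not_not.mp (fun hne => hx (R.mem_supp.mpr hne)), Int.cast_zero, zero_mul, zero_mul]),
    Finset.sum_insert (by simp [hij, hik, hil]), Finset.sum_insert (by simp [hjk, hjl]),
    Finset.sum_insert (by simp [hkl]), Finset.sum_singleton]
  simp only [p]
  ring

theorem four {t : Fin 4} {i j k l : ι} (hi : R.c t i ≠ 0) (hj : R.c t j ≠ 0)
    (hk : R.c t k ≠ 0) (hl : R.c t l ≠ 0) (hij : i ≠ j) (hik : i ≠ k) (hil : i ≠ l) (hjk : j ≠ k)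
    (hjl : j ≠ l) (hkl : k ≠ l) :
    R.q t j i j i * (R.p t i * R.p t j) = R.g * det2 (R.m t) * (R.p t i + R.p t j) ∧
    R.q t j i k i * R.p t i = R.g * det2 (R.m t) ∧ R.q t j i l k = 0 := by
  have S := R.sum_four hi hj hk hl hij hik hil hjk hjl hkl
  have s0 : R.p t i + R.p t j + R.p t k + R.p t l = 0 := by
    have h := S (fun _ => 1)
    simp only [mul_one] at h
    rw [← h]
    exact_mod_cast R.deg t
  have hassoc : ∀ f g : ι → ℂ, ∑ x, (R.c t x : ℂ) * R.d x * f x * g x =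
      R.p t i * f i * g i + R.p t j * f j * g j + R.p t k * f k * g k + R.p t l * f l * g l := by
    intro f g
    rw [Finset.sum_congr rfl (fun x _ => mul_assoc _ (f x) (g x)), S]
    ring
  exact four_point R.g_ne (R.m t) (R.p_ne hl) s0 (by rw [← S]; exact R.linU t)
    (by rw [← S]; exact R.linW t) (by rw [← hassoc]; exact R.momUU t)
    (by rw [← hassoc]; exact R.momUW t) (by rw [← hassoc]; exact R.momWW t)

theorem pair {t : Fin 4} {i j : ι} (hij : i ≠ j) (hi : R.c t i ≠ 0) (hj : R.c t j ≠ 0) :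
    R.q t j i j i * (R.p t i * R.p t j) = R.g * det2 (R.m t) * (R.p t i + R.p t j) := by
  obtain ⟨k, l, hk, hl, hki, hkj, hli, hlj, hkl⟩ := R.exists_complete hij hi hj
  exact (R.four hi hj hk hl hij hki.symm hli.symm hkj.symm hlj.symm hkl).1

theorem triple {t : Fin 4} {i j k : ι} (hij : i ≠ j) (hik : i ≠ k) (hjk : j ≠ k)
    (hi : R.c t i ≠ 0) (hj : R.c t j ≠ 0) (hk : R.c t k ≠ 0) :
    R.q t j i k i * R.p t i = R.g * det2 (R.m t) := by
  classical
  obtain ⟨a, b, ha, hb, hai, haj, hbi, hbj, hab⟩ := R.exists_complete hij hi hj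
  by_cases hka : k = a
  · subst hka
    exact (R.four hi hj hk hb hij hik hbi.symm hjk hbj.symm hab).2.1
  · exact (R.four hi hj hk ha hij hik hai.symm hjk haj.symm hka).2.1

theorem diff_ne {t : Fin 4} {i j : ι} (hij : i ≠ j) (hi : R.c t i ≠ 0) (hj : R.c t j ≠ 0)
    (hU : R.U j = R.U i) : R.W j ≠ R.W i := by
  intro hW
  obtain ⟨k, l, hk, -, hki, hkj, -⟩ := R.exists_complete hij hi hj
  have h := R.triple hij hki.symm hkj.symm hi hj hk
  simp only [q, adjForm, hU, hW, sub_self, mul_zero, zero_mul, add_zero] at h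
  exact mul_ne_zero R.g_ne (R.det_ne t) h.symm

/-- If `i`, `j` occur in rows `t`, `s` with equal coefficients, the two forms agree there. -/
theorem agree {t s : Fin 4} {i j : ι} (hij : i ≠ j) (hi : R.c t i ≠ 0) (hj : R.c t j ≠ 0)
    (hi' : R.c t i = R.c s i) (hj' : R.c t j = R.c s j) :
    R.q t j i j i * det2 (R.m s) = R.q s j i j i * det2 (R.m t) := by
  have h1 := R.pair hij hi hj
  have h2 := R.pair (t := s) hij (hi' ▸ hi) (hj' ▸ hj)
  have e1 : R.p s i = R.p t i := by simp [p, hi']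
  have e2 : R.p s j = R.p t j := by simp [p, hj']
  rw [e1, e2] at h2
  refine mul_right_cancel₀ (mul_ne_zero (R.p_ne hi) (R.p_ne hj)) ?_
  linear_combination det2 (R.m s) * h1 - det2 (R.m t) * h2

/-- Rows with inner product two share exactly two indices, with equal coefficients. -/
theorem shared {t s : Fin 4} (h : gramRows t s = 2) :
    ∃ i j, i ≠ j ∧ R.c t i ≠ 0 ∧ R.c t j ≠ 0 ∧ R.c t i = R.c s i ∧ R.c t j = R.c s j ∧
      ∀ x, R.c t x ≠ 0 → R.c s x ≠ 0 → x = i ∨ x = j := by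
  classical
  set A := (R.supp t).filter fun x => R.c t x = R.c s x
  set B := (R.supp t).filter fun x => R.c t x = -R.c s x
  have hdis : Disjoint A B := Finset.disjoint_filter.mpr fun x hx h1 h2 => by
    have := R.mem_supp.mp hx
    omega
  have hval : ∀ x, R.c t x * R.c s x = (if x ∈ A then 1 else 0) - (if x ∈ B then 1 else 0) := by
    intro x
    obtain h1 | h1 | h1 := R.c_bound t x <;> obtain h2 | h2 | h2 := R.c_bound s x <;>
      simp [A, B, R.mem_supp, h1, h2]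
  have hsum := R.gram t s
  rw [h, Finset.sum_congr rfl fun x _ => hval x, Finset.sum_sub_distrib, Finset.sum_boole,
    Finset.sum_boole, Finset.filter_mem_eq_inter, Finset.filter_mem_eq_inter, Finset.univ_inter,
    Finset.univ_inter] at hsum
  have hle : A.card + B.card ≤ 4 := by
    rw [← Finset.card_union_of_disjoint hdis, ← R.card_supp t]
    exact Finset.card_le_card (Finset.union_subset (Finset.filter_subset _ _)
      (Finset.filter_subset _ _))
  have hB : B = ∅ := by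
    by_contra hB
    obtain ⟨b, hb⟩ := Finset.nonempty_iff_ne_empty.mpr hB
    have hB1 : B.card = 1 := by
      have := Finset.card_pos.mpr ⟨b, hb⟩
      omega
    have hun : A ∪ B = R.supp t := Finset.eq_of_subset_of_card_le
      (Finset.union_subset (Finset.filter_subset _ _) (Finset.filter_subset _ _))
      (by rw [Finset.card_union_of_disjoint hdis, R.card_supp]; omega)
    have hs : R.supp t = R.supp s := by
      refine Finset.eq_of_subset_of_card_le (fun x hx => ?_) (by rw [R.card_supp, R.card_supp])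
      have hne := R.mem_supp.mp hx
      rw [← hun, Finset.mem_union] at hx
      rw [R.mem_supp]
      rcases hx with hx | hx <;> have := (Finset.mem_filter.mp hx).2 <;> omega
    have hpt : ∀ x, (R.c t x - R.c s x) * R.d x = if x = b then 2 * (R.c t b * R.d b) else 0 := by
      intro x
      obtain ⟨b', hB'⟩ := Finset.card_eq_one.mp hB1
      have hbb : b = b' := by simpa [hB'] using hb
      subst hbb
      split_ifs with hxb
      · subst hxb
        have := (Finset.mem_filter.mp hb).2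
        rw [show R.c s x = -R.c t x by omega]; ring
      · by_cases hx : R.c t x = 0
        · have : R.c s x = 0 := by
            by_contra hc
            exact (R.mem_supp.mp (hs ▸ R.mem_supp.mpr hc)) hx
          rw [hx, this]; ring
        · have hmem := hun ▸ R.mem_supp.mpr hx
          rw [← hun, hB', Finset.mem_union, Finset.mem_singleton] at *
          rcases hmem with hA | hb'
          · rw [(Finset.mem_filter.mp hA).2]; ring
          · exact absurd hb' hxb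
    have h0 : ∑ x, (R.c t x - R.c s x) * R.d x = 0 := by
      simp only [sub_mul, Finset.sum_sub_distrib, R.deg, sub_self]
    rw [Finset.sum_congr rfl fun x _ => hpt x, Finset.sum_ite_eq' Finset.univ b] at h0
    simp only [Finset.mem_univ, if_true] at h0
    exact (mul_ne_zero (R.mem_supp.mp (Finset.mem_filter.mp hb).1) (R.d_ne b)) (by linarith)
  have hA : A.card = 2 := by
    rw [hB, Finset.card_empty] at hsum
    omega
  obtain ⟨i, j, hij, he⟩ := Finset.card_eq_two.mp hA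
  have hi : i ∈ A := by rw [he]; simp
  have hj : j ∈ A := by rw [he]; simp
  simp only [A, Finset.mem_filter, R.mem_supp] at hi hj
  refine ⟨i, j, hij, hi.1, hj.1, hi.2, hj.2, fun x hx hx' => ?_⟩
  have hxA : x ∈ A := by
    obtain h1 | h1 | h1 := R.c_bound t x <;> obtain h2 | h2 | h2 := R.c_bound s x <;>
      first
      | (exact absurd h1 hx)
      | (exact absurd h2 hx')
      | (refine Finset.mem_filter.mpr ⟨R.mem_supp.mpr hx, ?_⟩; omega)
      | (exfalso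
         have : x ∈ B := Finset.mem_filter.mpr ⟨R.mem_supp.mpr hx, by omega⟩
         rw [hB] at this; simp at this)
  rw [he] at hxA
  simpa using hxA

/-- The slopes of the shared pairs. -/
structure Edges (E : Fin 4 → Fin 4 → ℂ → ℂ → Prop) : Prop where
  rel : ∀ t s i j, i ≠ j → R.c t i ≠ 0 → R.c t j ≠ 0 → R.c t i = R.c s i → R.c t j = R.c s j →
    E t s (R.U j - R.U i) (R.W j - R.W i)
  flip : ∀ t s x y, E t s x y → E t s (-x) (-y)
  cross0 : ∀ x y x' y', E 0 1 x y → E 0 2 x' y' → adjForm (R.m 0) x y x' y' = 0 →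
    (x = 0 ∧ y = 0) ∨ (x' = 0 ∧ y' = 0)
  cross1 : ∀ x y x' y', E 0 1 x y → E 1 3 x' y' → adjForm (R.m 1) x y x' y' = 0 →
    (x = 0 ∧ y = 0) ∨ (x' = 0 ∧ y' = 0)
  cross2 : ∀ x y x' y', E 0 2 x y → E 2 3 x' y' → adjForm (R.m 2) x y x' y' = 0 →
    (x = 0 ∧ y = 0) ∨ (x' = 0 ∧ y' = 0)
  cross3 : ∀ x y x' y', E 1 3 x y → E 2 3 x' y' → adjForm (R.m 3) x y x' y' = 0 →
    (x = 0 ∧ y = 0) ∨ (x' = 0 ∧ y' = 0)
  same2 : ∀ x y, E 0 2 x y → E 2 3 x y → x = 0 ∧ y = 0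
  same3 : ∀ x y, E 1 3 x y → E 2 3 x y → x = 0 ∧ y = 0
  mid13 : ∀ x y, E 1 2 x y → E 1 3 x y → x = 0 ∧ y = 0
  mid23 : ∀ x y, E 1 2 x y → E 2 3 x y → x = 0 ∧ y = 0

/-- The common pattern: a central index `i₁` and its three partners. -/
theorem pattern {E : Fin 4 → Fin 4 → ℂ → ℂ → Prop} (hE : R.Edges E) :
    ∃ i1 i2 i4 i6 : ι, R.o ≠ i1 ∧ i1 ≠ i2 ∧ i1 ≠ i4 ∧ i1 ≠ i6 ∧ R.o ≠ i2 ∧ R.o ≠ i4 ∧ R.o ≠ i6 ∧
      i2 ≠ i6 ∧ i4 ≠ i6 ∧
      (R.c 0 i1 ≠ 0 ∧ R.c 1 i1 = R.c 0 i1 ∧ R.c 2 i1 = R.c 0 i1 ∧ R.c 3 i1 = R.c 0 i1) ∧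
      (R.c 0 i2 ≠ 0 ∧ R.c 2 i2 = R.c 0 i2) ∧ (R.c 1 i4 ≠ 0 ∧ R.c 3 i4 = R.c 1 i4) ∧
      (R.c 2 i6 ≠ 0 ∧ R.c 3 i6 = R.c 2 i6 ∧ R.c 0 i6 = 0 ∧ R.c 1 i6 ≠ R.c 2 i6) := by
  have notzero : ∀ t i j, i ≠ j → R.c t i ≠ 0 → R.c t j ≠ 0 →
      ¬ (R.U j - R.U i = 0 ∧ R.W j - R.W i = 0) := fun t i j hij hi hj h =>
    R.diff_ne hij hi hj (sub_eq_zero.mp h.1) (sub_eq_zero.mp h.2)
  have crossAux : ∀ (t t1 t2 : Fin 4) (i j k l : ι),
      (∀ x y x' y', E t1 t x y → E t t2 x' y' → adjForm (R.m t) x y x' y' = 0 →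
        (x = 0 ∧ y = 0) ∨ (x' = 0 ∧ y' = 0)) →
      i ≠ j → k ≠ l → i ≠ k → i ≠ l → j ≠ k → j ≠ l →
      R.c t i ≠ 0 → R.c t j ≠ 0 → R.c t k ≠ 0 → R.c t l ≠ 0 →
      E t1 t (R.U j - R.U i) (R.W j - R.W i) → E t t2 (R.U l - R.U k) (R.W l - R.W k) → False := by
    intro t t1 t2 i j k l hcr hij hkl hik hil hjk hjl hi hj hk hl e1 e2
    have h := (R.four hi hj hk hl hij hik hil hjk hjl hkl).2.2
    rcases hcr _ _ _ _ e1 e2 h with h' | h'
    · exact notzero t i j hij hi hj h'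
    · exact notzero t k l hkl hk hl h'
  obtain ⟨a, b, hab, ha, hb, haa, hbb, h01⟩ := R.shared (t := 0) (s := 1) (by decide)
  have ho0 : R.c 0 R.o = 1 := R.c_o 0
  have ho1 : R.c 1 R.o = 1 := R.c_o 1
  have ho2 : R.c 2 R.o = 0 := R.c_o 2
  have ho3 : R.c 3 R.o = 0 := R.c_o 3
  obtain ⟨i1, hoi1, hi1, hi1', h01⟩ : ∃ i1, R.o ≠ i1 ∧ R.c 0 i1 ≠ 0 ∧ R.c 0 i1 = R.c 1 i1 ∧
      ∀ x, R.c 0 x ≠ 0 → R.c 1 x ≠ 0 → x = R.o ∨ x = i1 := by
    rcases h01 R.o (by rw [ho0]; norm_num) (by rw [ho1]; norm_num) with h | h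
    · exact ⟨b, h ▸ hab, hb, hbb, fun x hx hx' => h ▸ h01 x hx hx'⟩
    · exact ⟨a, h ▸ hab.symm, ha, haa, fun x hx hx' => (h ▸ h01 x hx hx').symm⟩
  have e01 : E 0 1 (R.U i1 - R.U R.o) (R.W i1 - R.W R.o) :=
    hE.rel 0 1 R.o i1 hoi1 (by rw [ho0]; norm_num) hi1 (by rw [ho0, ho1]) hi1'
  -- the pair shared by rows `0`, `2`
  obtain ⟨a, b, hab, ha, hb, haa, hbb, h02⟩ := R.shared (t := 0) (s := 2) (by decide)
  have hoa : R.o ≠ a := fun h => by rw [← h, ho0, ho2] at haa; norm_num at haa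
  have hob : R.o ≠ b := fun h => by rw [← h, ho0, ho2] at hbb; norm_num at hbb
  have e02 := hE.rel 0 2 a b hab ha hb haa hbb
  have h1ab : i1 = a ∨ i1 = b := by
    by_contra hc
    rw [not_or] at hc
    have h := (R.four (t := 0) (by rw [ho0]; norm_num) hi1 ha hb hoi1 hoa hob hc.1 hc.2 hab).2.2
    rcases hE.cross0 _ _ _ _ e01 e02 h with h' | h'
    · exact notzero 0 R.o i1 hoi1 (by rw [ho0]; norm_num) hi1 h'
    · exact notzero 0 a b hab ha hb h'
  obtain ⟨i2, h12, hi2, hi2', hoi2, h21, h02⟩ : ∃ i2, i1 ≠ i2 ∧ R.c 0 i2 ≠ 0 ∧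
      R.c 0 i2 = R.c 2 i2 ∧ R.o ≠ i2 ∧ R.c 0 i1 = R.c 2 i1 ∧
      ∀ x, R.c 0 x ≠ 0 → R.c 2 x ≠ 0 → x = i1 ∨ x = i2 := by
    rcases h1ab with h | h <;> subst h
    · exact ⟨b, hab, hb, hbb, hob, haa, h02⟩
    · exact ⟨a, hab.symm, ha, haa, hoa, hbb, fun x hx hx' => (h02 x hx hx').symm⟩
  clear ha hb haa hbb hoa hob e02 hab
  have e02 := hE.rel 0 2 i1 i2 h12 hi1 hi2 h21 hi2'
  -- the pair shared by rows `1`, `3`
  obtain ⟨a, b, hab, ha, hb, haa, hbb, h13⟩ := R.shared (t := 1) (s := 3) (by decide)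
  have hoa : R.o ≠ a := fun h => by rw [← h, ho1, ho3] at haa; norm_num at haa
  have hob : R.o ≠ b := fun h => by rw [← h, ho1, ho3] at hbb; norm_num at hbb
  have e13 := hE.rel 1 3 a b hab ha hb haa hbb
  have hi11 : R.c 1 i1 ≠ 0 := hi1' ▸ hi1
  have h1ab : i1 = a ∨ i1 = b := by
    by_contra hc
    rw [not_or] at hc
    exact crossAux 1 0 3 R.o i1 a b hE.cross1 hoi1 hab hoa hob hc.1 hc.2 (by rw [ho1]; norm_num)
      hi11 ha hb e01 e13
  obtain ⟨i4, h14, hi4, hi4', hoi4, h31, h13⟩ : ∃ i4, i1 ≠ i4 ∧ R.c 1 i4 ≠ 0 ∧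
      R.c 1 i4 = R.c 3 i4 ∧ R.o ≠ i4 ∧ R.c 1 i1 = R.c 3 i1 ∧
      ∀ x, R.c 1 x ≠ 0 → R.c 3 x ≠ 0 → x = i1 ∨ x = i4 := by
    rcases h1ab with h | h <;> subst h
    · exact ⟨b, hab, hb, hbb, hob, haa, h13⟩
    · exact ⟨a, hab.symm, ha, haa, hoa, hbb, fun x hx hx' => (h13 x hx hx').symm⟩
  clear ha hb haa hbb hoa hob e13 hab h1ab
  have e13 := hE.rel 1 3 i1 i4 h14 hi11 hi4 h31 hi4'
  have h24 : i2 ≠ i4 := fun h => by
    rcases h01 i2 hi2 (h ▸ hi4) with h' | h'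
    exacts [hoi2 h'.symm, h12 h'.symm]
  -- the pair shared by rows `2`, `3`
  obtain ⟨a, b, hab, ha, hb, haa, hbb, h23⟩ := R.shared (t := 2) (s := 3) (by decide)
  have hoa : R.o ≠ a := fun h => ha (h ▸ ho2)
  have hob : R.o ≠ b := fun h => hb (h ▸ ho2)
  have e23 := hE.rel 2 3 a b hab ha hb haa hbb
  have hi12 : R.c 2 i1 ≠ 0 := h21 ▸ hi1
  have hi13 : R.c 3 i1 ≠ 0 := h31 ▸ hi11
  have hi22 : R.c 2 i2 ≠ 0 := hi2' ▸ hi2
  have hi43 : R.c 3 i4 ≠ 0 := hi4' ▸ hi4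
  have hmeet2 : a = i1 ∨ a = i2 ∨ b = i1 ∨ b = i2 := by
    by_contra hc
    simp only [not_or] at hc
    exact crossAux 2 0 3 i1 i2 a b hE.cross2 h12 hab (Ne.symm hc.1) (Ne.symm hc.2.2.1)
      (Ne.symm hc.2.1) (Ne.symm hc.2.2.2) hi12 hi22 ha hb e02 e23
  have hmeet3 : a = i1 ∨ a = i4 ∨ b = i1 ∨ b = i4 := by
    by_contra hc
    simp only [not_or] at hc
    have h := (R.four (t := 3) hi13 hi43 (haa ▸ ha) (hbb ▸ hb) h14 (Ne.symm hc.1)
      (Ne.symm hc.2.2.1) (Ne.symm hc.2.1) (Ne.symm hc.2.2.2) hab).2.2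
    rcases hE.cross3 _ _ _ _ e13 e23 h with h' | h'
    · exact notzero 3 i1 i4 h14 hi13 hi43 h'
    · exact notzero 2 a b hab ha hb h'
  have hneg : ∀ t s i j, E t s (R.U j - R.U i) (R.W j - R.W i) →
      E t s (R.U i - R.U j) (R.W i - R.W j) := fun t s i j h => by
    have := hE.flip t s _ _ h
    rwa [neg_sub, neg_sub] at this
  have h1ab : a = i1 ∨ b = i1 := by
    by_contra hc
    rw [not_or] at hc
    have h24' : (a = i2 ∧ b = i4) ∨ (a = i4 ∧ b = i2) := by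
      rcases hmeet2 with h | h | h | h <;> rcases hmeet3 with h' | h' | h' | h' <;> grind
    have hc24 : R.c 2 i4 ≠ 0 ∧ R.c 2 i4 = R.c 3 i4 := by
      rcases h24' with ⟨-, h⟩ | ⟨h, -⟩
      · exact ⟨h ▸ hb, h ▸ hbb⟩
      · exact ⟨h ▸ ha, h ▸ haa⟩
    have e12 := hE.rel 1 2 i1 i4 h14 hi11 hi4 (by rw [← hi1', h21]) (by rw [hi4', hc24.2])
    exact notzero 1 i1 i4 h14 hi11 hi4 (hE.mid13 _ _ e12 e13)
  obtain ⟨i6, h16, hi6, hi6', hoi6, h231, e23⟩ : ∃ i6, i1 ≠ i6 ∧ R.c 2 i6 ≠ 0 ∧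
      R.c 2 i6 = R.c 3 i6 ∧ R.o ≠ i6 ∧ R.c 2 i1 = R.c 3 i1 ∧
      E 2 3 (R.U i6 - R.U i1) (R.W i6 - R.W i1) := by
    rcases h1ab with h | h <;> subst h
    · exact ⟨b, hab, hb, hbb, hob, haa, e23⟩
    · exact ⟨a, hab.symm, ha, haa, hoa, hbb, hneg _ _ _ _ e23⟩
  have h26 : i2 ≠ i6 := fun h => by
    subst h
    exact notzero 2 i1 i2 h12 hi12 hi22 (hE.same2 _ _ e02 e23)
  have h46 : i4 ≠ i6 := fun h => by
    subst h
    exact notzero 2 i1 i4 h14 hi12 hi6 (hE.same3 _ _ e13 e23)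
  refine ⟨i1, i2, i4, i6, hoi1, h12, h14, h16, hoi2, hoi4, hoi6, h26, h46,
    ⟨hi1, hi1'.symm, h21.symm, (h31.symm.trans hi1'.symm)⟩, ⟨hi2, hi2'.symm⟩, ⟨hi4, hi4'.symm⟩,
    hi6, hi6'.symm, ?_, ?_⟩
  · by_contra h0
    rcases h02 i6 h0 hi6 with h | h
    exacts [h16 h.symm, h26 h.symm]
  · intro heq
    have e12 := hE.rel 1 2 i1 i6 h16 hi11 (heq ▸ hi6) (by rw [← hi1', h21]) heq
    exact notzero 2 i1 i6 h16 hi12 hi6 (hE.mid23 _ _ e12 e23)

end Data

end Cfsg.Agent.H40.Wreath
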